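import Cfsg.Agent.Lib.KP.Prim2

/-!
Derived length of stabilisers: basic calculus.
-/

set_option autoImplicit false
set_option linter.style.haveILetI false
set_option linter.unusedSectionVars false

namespace Cfsg.Lib.DL9

open Subgroup MulAction Cfsg.Lib.SL
open scoped commutatorElement

/-- derived series of a subgroup -/
def dS {A : Type*} [Group A] (S : Subgroup A) : ℕ → Subgroup A
  | 0 => S
  | n + 1 => ⁅dS S n, dS S n⁆

section

variable {A B : Type*} [Group A] [Group B]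

theorem dS_succ (S : Subgroup A) (n : ℕ) : dS S (n + 1) = ⁅dS S n, dS S n⁆ := rfl

theorem dS_map (φ : A →* B) (S : Subgroup A) (n : ℕ) : (dS S n).map φ = dS (S.map φ) n := by
  induction n with
  | zero => rfl
  | succ n ih => rw [dS_succ, dS_succ, map_commutator, ih]

theorem dS_mono {S T : Subgroup A} (h : S ≤ T) (n : ℕ) : dS S n ≤ dS T n := by
  induction n with
  | zero => exact h
  | succ n ih => exact commutator_mono ih ih

theorem dS_add (S : Subgroup A) (m n : ℕ) : dS S (m + n) = dS (dS S m) n := by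
  induction n with
  | zero => rfl
  | succ n ih => rw [← add_assoc, dS_succ, dS_succ, ih]

theorem dS_le (S : Subgroup A) (n : ℕ) : dS S n ≤ S := by
  induction n with
  | zero => exact le_rfl
  | succ n ih =>
    exact commutator_le.2 fun a ha b hb => by
      rw [commutatorElement_def]
      exact mul_mem (mul_mem (mul_mem (ih ha) (ih hb)) (inv_mem (ih ha))) (inv_mem (ih hb))

theorem dS_anti (S : Subgroup A) {m n : ℕ} (h : m ≤ n) : dS S n ≤ dS S m := by
  obtain ⟨k, rfl⟩ := Nat.exists_eq_add_of_le h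
  rw [dS_add]; exact dS_le _ _

theorem dS_mem (φ : A →* B) {S : Subgroup A} {T : Subgroup B} (h : ∀ a ∈ S, φ a ∈ T) {n : ℕ} {a : A}
    (ha : a ∈ dS S n) : φ a ∈ dS T n :=
  dS_mono (map_le_iff_le_comap.2 h) n (dS_map φ S n ▸ mem_map_of_mem φ ha)

theorem dS_sub {S N : Subgroup A} (h : S ≤ N) {n : ℕ} {a : A} (ha : a ∈ dS S n) :
    ∃ b : N, b ∈ dS (S.subgroupOf N) n ∧ (b : A) = a := by
  have := dS_map N.subtype (S.subgroupOf N) n
  rw [subgroupOf_map_subtype, inf_eq_left.2 h] at this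
  rw [← this] at ha
  exact ha

theorem dS_top (n : ℕ) : dS (⊤ : Subgroup A) n = derivedSeries A n := by
  induction n with
  | zero => rfl
  | succ n ih => rw [dS_succ, ih, derivedSeries_succ]

theorem derived_bot {S : Subgroup A} {n : ℕ} (h : ∀ a ∈ dS S n, a = 1) : derivedSeries S n = ⊥ := by
  rw [← dS_top, eq_bot_iff]
  intro a ha
  exact Subtype.ext (h _ (dS_mem S.subtype (fun a _ => a.2) ha))

end

/-- the `d`-th derived subgroup of `S` acts trivially on `X` -/
def Sm {A : Type*} [Group A] (X : Type*) [MulAction A X] (S : Subgroup A) (d : ℕ) : Prop :=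
  ∀ a ∈ dS S d, ∀ x : X, a • x = x

/-- inequivalent points with stabilisers of small derived length -/
def PP (A E X C : Type*) [Group A] [MulAction A E] [MulAction A X] (d : ℕ) : Prop :=
  ∃ g : C → E, (∀ c, Sm X (stabilizer A (g c)) d) ∧ ∀ c c' (a : A), a • g c = g c' → c = c'

section

variable {A B X E C : Type*} [Group A] [Group B] [MulAction A X] [MulAction A E]

theorem Sm.mono {S T : Subgroup A} {d d' : ℕ} (h : Sm X T d) (h1 : S ≤ T) (h2 : d ≤ d') : Sm X S d' :=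
  fun a ha => h a (dS_mono h1 _ (dS_anti _ h2 ha))

theorem Sm.of_hom [MulAction B X] (φ : A →* B) (hφ : ∀ (a : A) (x : X), φ a • x = a • x) {S : Subgroup A}
    {T : Subgroup B} (h1 : ∀ a ∈ S, φ a ∈ T) {d : ℕ} (h : Sm X T d) : Sm X S d :=
  fun a ha x => by rw [← hφ]; exact h _ (dS_mem φ h1 ha) x

theorem Sm.one {S : Subgroup A} (h : ∀ a ∈ S, ∀ b ∈ S, ∀ x : X, a • b • x = b • a • x) : Sm X S 1 := by
  have : dS S 1 ≤ (toPermHom A X).ker := commutator_le.2 fun a ha b hb => KP.mem_kerP.2 fun x => by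
    rw [commutatorElement_def, mul_smul, mul_smul, mul_smul, h a ha b hb, smul_inv_smul, smul_inv_smul]
  exact fun a ha => KP.mem_kerP.1 (this ha)

theorem PP.mono {d d' : ℕ} (h : PP A E X C d) (h2 : d ≤ d') : PP A E X C d' :=
  h.imp fun _ h => ⟨fun c => (h.1 c).mono le_rfl h2, h.2⟩

theorem PP.comp {C' : Type*} {d : ℕ} (h : PP A E X C d) {f : C' → C} (hf : Function.Injective f) :
    PP A E X C' d := by
  obtain ⟨g, h1, h2⟩ := h
  exact ⟨g ∘ f, fun c => h1 _, fun c c' a e => hf (h2 _ _ a e)⟩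

theorem PP.of_hom [MulAction B X] [MulAction B E] (φ : A →* B) (hφ : ∀ (a : A) (x : X), φ a • x = a • x)
    (hφ' : ∀ (a : A) (x : E), φ a • x = a • x) {d : ℕ} (h : PP B E X C d) : PP A E X C d := by
  obtain ⟨g, h1, h2⟩ := h
  exact ⟨g, fun c => (h1 c).of_hom φ hφ fun a ha => (hφ' a _).trans ha,
    fun c c' a e => h2 c c' (φ a) ((hφ' a _).trans e)⟩

theorem exists_ineq [Finite A] (T : Set E) (hT : T.Finite) (k : ℕ) (h : k * Nat.card A < T.ncard) :
    ∃ g : Fin (k + 1) → E, (∀ c, g c ∈ T) ∧ ∀ c c' (a : A), a • g c = g c' → c = c' := by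
  induction k with
  | zero =>
    obtain ⟨x, hx⟩ := (Set.ncard_pos hT).1 (by omega)
    exact ⟨fun _ => x, fun _ => hx, fun _ _ _ _ => Subsingleton.elim (α := Fin 1) _ _⟩
  | succ k ih =>
    obtain ⟨g, h1, h2⟩ := ih (by nlinarith)
    have h3 : (Set.range fun x : Fin (k + 1) × A => x.2 • g x.1).ncard ≤ (k + 1) * Nat.card A := by
      rw [← Set.image_univ]
      refine (Set.ncard_image_le (Set.toFinite _)).trans ?_
      simp [Set.ncard_univ]
    obtain ⟨x, hx, hx'⟩ := Set.exists_mem_notMem_of_ncard_lt_ncard (h3.trans_lt h) (Set.toFinite _)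
    refine ⟨Fin.cons x g, fun c => Fin.cases hx h1 c, fun c c' a => ?_⟩
    refine Fin.cases ?_ (fun c => ?_) c <;> refine Fin.cases ?_ (fun c' => ?_) c' <;> intro e
    · rfl
    · exact (hx' ⟨(c', a⁻¹), inv_smul_eq_iff.2 e.symm⟩).elim
    · exact (hx' ⟨(c, a), e⟩).elim
    · rw [h2 c c' a e]

end

theorem transport' {X E J C : Type*} [Group X] [MulAction X E] [MulAction X J] (p : E → J)
    (hp : ∀ (a : X) e, p (a • e) = a • p e) (Good : E → Prop) (hG : ∀ (a : X) e, Good e → Good (a • e))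
    (mult : ∀ j, ∃ f : C → E, (∀ c, p (f c) = j ∧ Good (f c)) ∧ ∀ c c' (a : X), a • f c = f c' → c = c') :
    ∃ s : J → C → E, (∀ j c, p (s j c) = j ∧ Good (s j c)) ∧
      ∀ (a : X) j c c', a • s j c = s (a • j) c' → c = c' := by
  choose f hf hf' using mult
  let rep : J → J := fun j => (Quotient.mk (orbitRel X J) j).out
  have h1 : ∀ j, ∃ g : X, g • rep j = j := fun j =>
    (orbitRel X J).symm (Quotient.mk_out (s := orbitRel X J) j)
  have h2 : ∀ (a : X) j, rep (a • j) = rep j := fun a j =>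
    congrArg Quotient.out (Quotient.sound (mem_orbit j a))
  choose g hg using h1
  refine ⟨fun j c => g j • f (rep j) c, fun j c => ⟨by rw [hp, (hf _ _).1, hg], hG _ _ (hf _ _).2⟩,
    fun a j c c' e => hf' (rep j) _ _ ((g (a • j))⁻¹ * a * g j) ?_⟩
  simp only [h2] at e
  rw [mul_smul, mul_smul, e, inv_smul_smul]

section

variable {A V : Type*} [Group A] [AddCommGroup V] [DistribMulAction A V]

variable (A) in
/-- invariant subgroups -/
def Iv (M : AddSubgroup V) : Prop := ∀ a : A, ∀ v ∈ M, a • v ∈ M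

variable (A V) in
/-- complete reducibility -/
def CR : Prop := ∀ U : AddSubgroup V, (∀ a : A, ∀ v ∈ U, a • v ∈ U) →
  ∃ W : AddSubgroup V, (∀ a : A, ∀ w ∈ W, a • w ∈ W) ∧ U ⊓ W = ⊥ ∧ U ⊔ W = ⊤

theorem cr_ind [Finite V] (hcr : CR A V) (Q : AddSubgroup V → Prop)
    (h1 : ∀ (M : AddSubgroup V) (hM : Iv A M), (letI := invAct A M hM; Irr A M) → Q M)
    (h2 : ∀ M N : AddSubgroup V, Iv A M → Iv A N → M ⊓ N = ⊥ → Q M → Q N → Q (M ⊔ N)) : Q ⊤ := by
  suffices h : ∀ M : AddSubgroup V, Iv A M → Q M from h ⊤ fun _ _ _ => trivial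
  intro M
  induction M using WellFoundedLT.induction with
  | ind M ih =>
  intro hM
  by_cases h : ∃ U : AddSubgroup V, (∀ a : A, ∀ v ∈ U, a • v ∈ U) ∧ U ≠ ⊥ ∧ U < M
  · obtain ⟨U, hU, h0, h1⟩ := h
    obtain ⟨W, hW, h3, h4⟩ := hcr U hU
    have h5 : U ⊔ W ⊓ M = M := by rw [← sup_inf_assoc_of_le _ h1.le, h4, top_inf_eq]
    have h6 : Iv A (W ⊓ M) := fun a v hv => ⟨hW a v hv.1, hM a v hv.2⟩
    rw [← h5]
    exact h2 _ _ hU h6 (by rw [← inf_assoc, h3, bot_inf_eq]) (ih U h1 hU)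
      (ih (W ⊓ M) (lt_of_le_of_ne inf_le_right fun e => h0 (by
        rw [← h3, eq_comm, inf_eq_left]; exact h1.le.trans (e.ge.trans inf_le_left))) h6)
  · refine h1 M hM fun U hU => ?_
    by_contra! hc
    refine h ⟨U.map M.subtype, ?_, ?_, lt_of_le_of_ne (AddSubgroup.map_subtype_le _) fun e => hc.2 ?_⟩
    · rintro a _ ⟨w, hw, rfl⟩
      exact ⟨_, hU a w hw, rfl⟩
    · rw [Ne, AddSubgroup.map_eq_bot_iff_of_injective _ Subtype.val_injective]; exact hc.1
    · refine eq_top_iff.2 fun v _ => ?_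
      obtain ⟨w, hw, e⟩ := e.ge v.2
      exact (Subtype.ext e : w = v) ▸ hw

theorem sm_cr [Finite V] (hcr : CR A V) {d : ℕ}
    (h1 : ∀ (M : AddSubgroup V) (hM : Iv A M), (letI := invAct A M hM; Irr A M → Sm M (⊤ : Subgroup A) d)) :
    Sm V (⊤ : Subgroup A) d := fun a ha v =>
  cr_ind hcr (fun M => ∀ v ∈ M, a • v = v)
    (fun M hM irr v hv => congrArg Subtype.val (h1 M hM irr a ha ⟨v, hv⟩)) (fun M N _ _ _ e1 e2 v hv => by
      obtain ⟨x, hx, y, hy, rfl⟩ := AddSubgroup.mem_sup.1 hv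
      rw [smul_add, e1 x hx, e2 y hy]) v trivial

theorem vec_cr [Finite V] (hcr : CR A V) {d : ℕ}
    (h1 : ∀ (M : AddSubgroup V) (hM : Iv A M), (letI := invAct A M hM;
      Irr A M → ∃ v : M, Sm M (stabilizer A v) d)) : ∃ v : V, Sm V (stabilizer A v) d := by
  obtain ⟨v, -, hv⟩ := cr_ind hcr (fun M => ∃ v ∈ M, ∀ a ∈ dS (stabilizer A v) d, ∀ x ∈ M, a • x = x)
    (fun M hM irr => by
      letI := invAct A M hM
      obtain ⟨v, hv⟩ := h1 M hM irr
      exact ⟨v, v.2, fun a ha x hx => congrArg Subtype.val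
        (hv a (dS_mono (fun b hb => Subtype.ext hb) d ha) ⟨x, hx⟩)⟩) (by
      rintro M N hM hN h0 ⟨v, hv, e1⟩ ⟨w, hw, e2⟩
      have h5 : ∀ a : A, a • (v + w) = v + w → a • v = v := fun a this => sub_eq_zero.1
        (AddSubgroup.mem_bot.1 (h0 ▸ AddSubgroup.mem_inf.2 ⟨sub_mem (hM a _ hv) hv, by
          rw [smul_add, ← sub_eq_iff_eq_add', add_sub_right_comm, ← eq_sub_iff_add_eq] at this
          exact this ▸ N.sub_mem hw (hN a _ hw)⟩))
      refine ⟨v + w, AddSubgroup.add_mem_sup hv hw, fun a ha z hz => ?_⟩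
      obtain ⟨x, hx, y, hy, rfl⟩ := AddSubgroup.mem_sup.1 hz
      rw [smul_add, e1 a (dS_mono h5 d ha) x hx, e2 a (dS_mono (fun b hb => ?_) d ha) y hy]
      have := mem_stabilizer_iff.1 hb
      rwa [smul_add, h5 b hb, add_right_inj] at this)
  exact ⟨v, fun a ha x => hv a ha x trivial⟩

end

end Cfsg.Lib.DL9
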