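import Cfsg.Agent.Lib.DL9.Tab

/-!
Colourings with two and three colours whose stabilisers have small derived length.
-/

set_option autoImplicit false
set_option linter.style.haveILetI false
set_option linter.unusedSectionVars false

namespace Cfsg.Lib.DL9

open Subgroup MulAction Cfsg.Lib.SL Cfsg.Lib.KP

universe u

variable {X I : Type u} [Group X] [Finite X] [Group.IsSolvable X] [Finite I] [MulAction X I]

theorem exists_aff (prim : Prm X I) (hne : ∃ (a : X) (i : I), a • i ≠ i) :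
    ∃ (H : Type u) (_ : Group H) (_ : Finite H) (_ : Group.IsSolvable H) (_ : AddCommGroup I)
      (_ : DistribMulAction H I), Irr H I ∧ ∀ a : X, ∃ (t : I) (h : H), ∀ v : I, a • v = t + h • v := by
  obtain ⟨H, V, _, _, _, _, _, e, -, -, h3, h4⟩ := exists_affine prim hne
  letI := e.symm.addCommGroup
  let φ : I ≃+ V := e.symm.addEquiv
  letI : DistribMulAction H I :=
    { smul := fun h i => φ.symm (h • φ i)
      one_smul := fun i => by change φ.symm _ = _; simp
      mul_smul := fun a b i => by change φ.symm _ = φ.symm (a • φ (φ.symm _)); simp [mul_smul]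
      smul_zero := fun a => by change φ.symm _ = _; simp
      smul_add := fun a i j => by change φ.symm _ = φ.symm _ + φ.symm _; simp }
  have sm : ∀ (h : H) (i : I), φ (h • i) = h • φ i := fun h i => φ.apply_symm_apply _
  refine ⟨H, inferInstance, inferInstance, inferInstance, inferInstance, inferInstance, fun W hW => ?_, fun a => ?_⟩
  · refine (h3 (W.map φ.toAddMonoidHom) ?_).imp (fun e => ?_) fun e => eq_top_iff.2 fun v _ => ?_
    · rintro a _ ⟨w, hw, rfl⟩
      exact ⟨_, hW a w hw, sm a w⟩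
    · exact (AddSubgroup.map_eq_bot_iff_of_injective _ φ.injective).1 e
    · obtain ⟨w, hw, e⟩ := e.ge (AddSubgroup.mem_top (φ v))
      exact φ.injective e ▸ hw
  · obtain ⟨t, h, hth⟩ := h4 a
    refine ⟨e t, h, fun v => φ.injective ?_⟩
    obtain ⟨v, rfl⟩ := e.surjective v
    have k : ∀ x, φ (e x) = x := e.symm_apply_apply
    rw [hth, map_add φ, sm, k, k, k]

variable (X) in
/-- a base -/
def Bas (B : Set I) : Prop := ∀ a : X, (∀ i ∈ B, a • i = i) → ∀ i : I, a • i = i

theorem Bas.mono {B B' : Set I} (h : Bas X B) (e : B ⊆ B') : Bas X B' := fun a ha => h a fun i hi => ha i (e hi)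

theorem bas_of_compl {B : Set I} (h : Nat.card I ≤ B.ncard + 1) : Bas X B := fun a ha i => by
  by_contra ne
  have hi : i ∉ B := fun hi => ne (ha i hi)
  have := Set.ncard_add_ncard_compl B
  exact ne ((Set.ncard_le_one_iff (s := Bᶜ)).1 (by omega) (fun e => ne (smul_left_cancel a (ha _ e))) hi)

theorem exists_bas_four (prim : Prm X I) : ∃ B : Set I, B.ncard ≤ 4 ∧ Bas X B := by
  by_cases hne : ∃ (a : X) (i : I), a • i ≠ i
  swap
  · push Not at hne
    exact ⟨∅, by simp, fun a _ => hne a⟩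
  obtain ⟨H, _, _, _, _, _, irr, hth⟩ := exists_aff prim hne
  obtain ⟨b, hb⟩ := base_three irr
  refine ⟨insert 0 (Set.range b), (Set.ncard_insert_le _ _).trans ?_, fun a ha i => ?_⟩
  · have := Set.ncard_image_le (f := b) (s := Set.univ)
    simp only [Set.image_univ, Set.ncard_univ, Nat.card_eq_fintype_card, Fintype.card_fin] at this
    omega
  obtain ⟨t, h, e⟩ := hth a
  obtain rfl : t = 0 := by simpa [e] using ha 0 (Or.inl rfl)
  rw [e, zero_add, hb h fun i => by simpa [e] using ha (b i) (Or.inr ⟨i, rfl⟩)]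

theorem exists_bas_two (prim : Prm X I) (h : Squarefree (Nat.card I)) : ∃ B : Set I, B.ncard ≤ 2 ∧ Bas X B := by
  by_cases hne : ∃ (a : X) (i : I), a • i ≠ i
  swap
  · push Not at hne
    exact ⟨∅, by simp, fun a _ => hne a⟩
  obtain ⟨H, _, _, _, _, _, irr, hth⟩ := exists_aff prim hne
  obtain ⟨g, hg⟩ := (cyc_of_sqf (M := Multiplicative I) h).exists_generator
  refine ⟨{0, g.toAdd}, (Set.ncard_insert_le _ _).trans (by simp), fun a ha i => ?_⟩
  obtain ⟨t, h, e⟩ := hth a
  obtain rfl : t = 0 := by simpa [e] using ha 0 (Or.inl rfl)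
  obtain ⟨k, hk⟩ := hg (Multiplicative.ofAdd i)
  obtain rfl : k • g.toAdd = i := congrArg Multiplicative.toAdd hk
  rw [e, zero_add, smul_comm, show h • g.toAdd = g.toAdd by simpa [e] using ha _ (Or.inr rfl)]

theorem sm_set {S : Set I} {n : ℕ} (hS : S.ncard ≤ n) (hn : n ≤ 7) {T : Subgroup X}
    (inv : ∀ a ∈ T, ∀ i ∈ S, a • i ∈ S) {a : X} (ha : a ∈ dS T (pl n)) {i : I} (hi : i ∈ S) : a • i = i := by
  let B : SubMulAction T I := ⟨S, fun a i hi => inv a a.2 i hi⟩
  obtain ⟨b, hb, rfl⟩ := dS_sub le_rfl ha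
  exact congrArg Subtype.val ((perm_sm _ (hS.trans hn) T B rfl).mono le_top (d' := pl n)
    (by have : Nat.card B ≤ n := hS; unfold pl; split_ifs <;> omega) b hb ⟨i, hi⟩)

/-- sizes of the colour classes -/
noncomputable def cnt {C : Type*} (f : Col I C) (c : C) : ℕ := {i | f i = c}.ncard

theorem pp_cnt {C C' : Type*} {d : ℕ} (F : C' → Col I C) (h1 : ∀ c, Sm I (stabilizer X (F c)) d)
    (h2 : ∀ c c', (∀ k, cnt (F c) k = cnt (F c') k) → c = c') : PP X (Col I C) I C' d :=
  ⟨F, h1, fun c c' a e => h2 c c' fun k => Set.ncard_congr' (Equiv.subtypeEquiv (toPerm a) fun i => by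
    change F c i = k ↔ F c' (a • i) = k
    rw [(regCol_iff _ _ a).1 e])⟩

theorem pp_sets {C' : Type*} {d : ℕ} (S : C' → Set I) (h1 : ∀ c (T : Subgroup X),
    (∀ a ∈ T, ∀ i, a • i ∈ S c ↔ i ∈ S c) → Sm I T d) (h2 : ∀ c c', (S c).ncard = (S c').ncard → c = c') :
    PP X (Col I (Fin 2)) I C' d := by
  classical
  refine pp_cnt (fun c i => if i ∈ S c then 1 else 0) (fun c => h1 c _ fun a ha i => ?_) fun c c' e => h2 c c' ?_
  · have := (regCol_iff _ _ a).1 ha i
    by_cases e : i ∈ S c <;> by_cases e' : a • i ∈ S c <;> simp_all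
  · simpa [cnt] using e 1

theorem pp_small {k d : ℕ} (hk : k ≤ Nat.card I) (h : Sm I (⊤ : Subgroup X) d) :
    PP X (Col I (Fin 2)) I (Fin (k + 1)) d := by
  choose S _ hS using fun c : Fin (k + 1) => Set.exists_subset_card_eq (s := (Set.univ : Set I)) (n := c)
    (by rw [Set.ncard_univ]; omega)
  exact pp_sets S (fun c T _ => h.mono le_top le_rfl) fun c c' e => Fin.ext (by rw [← hS, e, hS])

theorem col_two (prim : Prm X I) (h4 : 4 ≤ Nat.card I) : PP X (Col I (Fin 2)) I (Fin 5) 3 := by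
  by_cases h8 : Nat.card I ≤ 8
  · exact pp_small h4 ((prm_dl prim (by omega)).mono le_rfl (by unfold dl; split_ifs <;> omega))
  by_cases h11 : Nat.card I = 11
  · exact pp_small h4 ((prm_sm prim fun H V _ _ _ _ _ _ e _ => sm_sqf (by
      rw [e, h11]; exact (by norm_num : Nat.Prime 11).squarefree)).mono le_rfl (by norm_num))
  obtain ⟨B, h1, h2⟩ := exists_bas_four prim
  choose S s1 _ s2 using fun c : Fin 4 => Set.exists_subsuperset_card_eq (Set.subset_univ B) (n := c + 4)
    (by omega) (by rw [Set.ncard_univ]; omega)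
  have k : ∀ c (T : Subgroup X), (∀ a ∈ T, ∀ i, a • i ∈ S c ↔ i ∈ S c) → Sm I T 3 := fun c T hT a ha =>
    h2 a fun i hi => sm_set (n := 7) (by rw [s2]; omega) le_rfl (fun a ha i => (hT a ha i).2) ha (s1 c hi)
  let c₀ : Fin 4 := if Nat.card I ≤ 10 then 3 else 0
  have k0 : ∀ c, (S c₀)ᶜ.ncard ≠ (S c).ncard := fun c => by
    rw [Set.ncard_compl, s2, s2]
    simp only [c₀]
    split_ifs <;> simp <;> omega
  refine pp_sets (Fin.cons (S c₀)ᶜ S) (fun c => Fin.cases (fun T hT => k c₀ T fun a ha i =>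
    not_iff_not.1 (hT a ha i)) k c) fun c c' => ?_
  refine Fin.cases ?_ (fun c => ?_) c <;> refine Fin.cases ?_ (fun c' => ?_) c' <;> intro e
  · rfl
  · exact (k0 _ e).elim
  · exact (k0 _ e.symm).elim
  · simp only [Fin.cons_succ, s2] at e
    rw [Fin.ext (Nat.add_right_cancel e)]

theorem col_five [Nonempty I] : PP X (Col I (Fin 5)) I (Fin 5) 0 := by
  obtain ⟨f, hf⟩ := colEx (fun _ _ _ h => h) colMult_five (colAff_five (baseEx_three _)) X I le_rfl trivial
  obtain ⟨g, h1, h2⟩ := colMult_five X I trivial f hf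
  exact ⟨g, fun c a ha => h1 c a ((regCol_iff _ _ a).1 ha), fun c c' a e => h2 c c' a ((regCol_iff _ _ a).1 e)⟩

theorem col_odd (h : ¬ 2 ∣ Nat.card X) : PP X (Col I (Fin 2)) I Unit 0 := by
  obtain ⟨f, hf⟩ := colEx (P := fun n => ¬ 2 ∣ n) (fun _ _ e h e' => h (e'.trans e))
    (colMult_prime Nat.prime_two (Equiv.swap 0 1) (by decide) (by decide)) (colAff_two (baseEx_odd _)) X I le_rfl h
  exact ⟨fun _ => f, fun c a ha => hf a ((regCol_iff _ _ a).1 ha), fun _ _ _ _ => rfl⟩

variable (X) in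
/-- a three-colouring with abelian stabiliser -/
def Tri (x y : ℕ) : Prop := ∃ S₁ S₂ : Set I, Disjoint S₁ S₂ ∧ S₁.ncard = x ∧ S₂.ncard = y ∧
  ∀ T : Subgroup X, (∀ a ∈ T, ∀ i, a • i ∈ S₁ ↔ i ∈ S₁) → (∀ a ∈ T, ∀ i, a • i ∈ S₂ ↔ i ∈ S₂) → Sm I T 1

theorem Tri.col {x y : ℕ} (h : Tri X (I := I) x y) (k : Fin 3) : ∃ f : Col I (Fin 3),
    Sm I (stabilizer X f) 1 ∧ ∀ c, cnt f c = ![x, y, Nat.card I - (x + y)] (c + k) := by
  classical
  obtain ⟨S₁, S₂, h1, rfl, rfl, h2⟩ := h
  let f : I → Fin 3 := fun i => if i ∈ S₁ then 0 else if i ∈ S₂ then 1 else 2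
  have f0 : ∀ i, f i = 0 ↔ i ∈ S₁ := fun i => by simp only [f]; split_ifs <;> simp [*]
  have f1 : ∀ i, f i = 1 ↔ i ∈ S₂ := fun i => by
    simp only [f]
    split_ifs with e e'
    · simpa using Set.disjoint_left.1 h1 e
    all_goals simp [*]
  have f2 : ∀ i, f i = 2 ↔ i ∈ (S₁ ∪ S₂)ᶜ := fun i => by simp only [f]; split_ifs <;> simp [*]
  have hf : ∀ a ∈ stabilizer X (show Col I (Fin 3) from fun i => f i - k), ∀ i, f (a • i) = f i :=
    fun a ha i => sub_left_injective ((regCol_iff _ _ a).1 ha i)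
  refine ⟨fun i => f i - k, h2 _ (fun a ha i => by rw [← f0, ← f0, hf a ha]) fun a ha i => by
    rw [← f1, ← f1, hf a ha], fun c => ?_⟩
  simp only [cnt, sub_eq_iff_eq_add]
  generalize c + k = c
  fin_cases c
  · simp [f0]
  · simp [f1]
  · simp only [Fin.reduceFinMk, f2, Set.ofPred_mem_eq]
    rw [Set.ncard_compl, Set.ncard_union_eq h1]
    rfl

theorem pp_tri {x y x' y' : ℕ} (h : Tri X (I := I) x y) (h' : Tri X (I := I) x' y')
    (H : ∀ c c' : Fin 5, (∀ k : Fin 3, ![x, y, Nat.card I - (x + y), x', y', Nat.card I - (x' + y')]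
      (![![0, 1, 2], ![1, 2, 0], ![2, 0, 1], ![3, 4, 5], ![4, 5, 3]] c k) =
      ![x, y, Nat.card I - (x + y), x', y', Nat.card I - (x' + y')]
      (![![0, 1, 2], ![1, 2, 0], ![2, 0, 1], ![3, 4, 5], ![4, 5, 3]] c' k)) → c = c') :
    PP X (Col I (Fin 3)) I (Fin 5) 1 := by
  choose f f1 f2 using h.col
  choose g g1 g2 using h'.col
  refine pp_cnt ![f 0, f 1, f 2, g 0, g 1] (fun c => by fin_cases c <;> simp [f1, g1]) fun c c' e =>
    H c c' fun k => ?_
  have : ∀ c k, cnt (![f 0, f 1, f 2, g 0, g 1] c) k = ![x, y, Nat.card I - (x + y), x', y',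
      Nat.card I - (x' + y')] (![![0, 1, 2], ![1, 2, 0], ![2, 0, 1], ![3, 4, 5], ![4, 5, 3]] c k) := fun c k => by
    fin_cases c <;> fin_cases k <;> simp [f2, g2]
  rw [← this, ← this, e]

theorem tri_of {S₁ S₂ : Set I} (h1 : Disjoint S₁ S₂) {x y : ℕ} (hx : S₁.ncard = x) (hy : S₂.ncard = y)
    (x2 : x ≤ 2) (y2 : y ≤ 2) (hB : Bas X (S₁ ∪ S₂)) : Tri X (I := I) x y :=
  ⟨S₁, S₂, h1, hx, hy, fun _ e1 e2 a ha => hB a fun _ hi => hi.elim
    (sm_set (n := 2) (hx ▸ x2) (by norm_num) (fun a ha i => (e1 a ha i).2) ha)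
    (sm_set (n := 2) (hy ▸ y2) (by norm_num) (fun a ha i => (e2 a ha i).2) ha)⟩

theorem tri_small {x y : ℕ} (x2 : x ≤ 2) (y2 : y ≤ 2) (h1 : x + y ≤ Nat.card I) (h2 : Nat.card I ≤ x + y + 1) :
    Tri X (I := I) x y := by
  obtain ⟨S₁, -, e1⟩ := Set.exists_subset_card_eq (s := (Set.univ : Set I)) (n := x)
    (by rw [Set.ncard_univ]; omega)
  obtain ⟨S₂, d, e2⟩ := Set.exists_subset_card_eq (s := S₁ᶜ) (n := y) (by rw [Set.ncard_compl]; omega)
  have hd := (Set.subset_compl_iff_disjoint_left.1 d)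
  exact tri_of hd e1 e2 x2 y2 (bas_of_compl (by rw [Set.ncard_union_eq hd]; omega))

theorem exists_third (prim : Prm X I) (h5 : 5 ≤ Nat.card I) {S₁ S₂ : Set I} (h1 : Disjoint S₁ S₂)
    (e1 : S₁.ncard = 2) (e2 : S₂.ncard = 2) : ∃ w, w ∉ S₁ ∧ w ∉ S₂ ∧ ∃ m ∈ insert w S₂, ∀ a : X,
      (∀ i, a • i ∈ S₁ ↔ i ∈ S₁) → (∀ i, a • i ∈ insert w S₂ ↔ i ∈ insert w S₂) → a • m = m := by
  obtain ⟨w, -, hw⟩ := Set.exists_mem_notMem_of_ncard_lt_ncard (s := S₁ ∪ S₂) (t := Set.univ)
    (by rw [Set.ncard_union_eq h1, Set.ncard_univ]; omega)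
  rw [Set.mem_union, not_or] at hw
  by_cases hne : ∃ (a : X) (i : I), a • i ≠ i
  swap
  · push Not at hne
    exact ⟨w, hw.1, hw.2, w, Or.inl rfl, fun a _ _ => hne a w⟩
  obtain ⟨H, _, _, _, _, _, irr, hth⟩ := exists_aff prim hne
  obtain ⟨p, q, pq, rfl⟩ := Set.ncard_eq_two.1 e1
  have sw : ∀ a : X, (∀ i, a • i ∈ ({p, q} : Set I) ↔ i ∈ ({p, q} : Set I)) →
      a • p = p ∧ a • q = q ∨ a • p = q ∧ a • q = p := fun a ha => by
    rcases (ha p).2 (Or.inl rfl) with e | e <;> rcases (ha q).2 (Or.inr rfl) with e' | e'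
    exacts [(pq (smul_left_cancel a (e.trans e'.symm))).elim, Or.inl ⟨e, e'⟩, Or.inr ⟨e, e'⟩,
      (pq (smul_left_cancel a (e.trans e'.symm))).elim]
  by_cases h2 : 2 ∣ Nat.card I
  · have two : ∀ v : I, v + v = 0 := fun v => (two_nsmul v).symm.trans (irr.nsmul Nat.prime_two h2 v)
    have neg : ∀ v : I, -v = v := fun v => neg_eq_of_add_eq_zero_right (two v)
    have x0 : p + q ≠ 0 := fun e => pq (by rw [eq_neg_of_add_eq_zero_left e, neg])
    have key : ∀ y m : I, m ≠ y → m ≠ y + (p + q) → ∀ a : X, (∀ i, a • i ∈ ({p, q} : Set I) ↔ i ∈ ({p, q} : Set I)) →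
        (∀ i, a • i ∈ ({m, y, y + (p + q)} : Set I) ↔ i ∈ ({m, y, y + (p + q)} : Set I)) → a • m = m :=
      fun y m n1 n2 a a1 a2 => by
        obtain ⟨t, h, e⟩ := hth a
        have k1 : h • (p + q) = p + q := by
          have : a • p + a • q = p + q := (sw a a1).elim (fun e => by rw [e.1, e.2]) fun e => by
            rw [e.1, e.2, add_comm]
          rwa [e, e, add_add_add_comm, two, zero_add, ← smul_add] at this
        have k2 : a • (m + (p + q)) = a • m + (p + q) := by rw [e, e, smul_add, k1, add_assoc]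
        by_contra ne
        have : m + (p + q) ∈ ({m, y, y + (p + q)} : Set I) := (a2 _).1 (by
          rw [k2]
          rcases (a2 m).2 (Or.inl rfl) with e | e | e
          · exact (ne e).elim
          · exact Or.inr (Or.inr (by rw [e]; rfl))
          · exact Or.inr (Or.inl (by rw [e, add_assoc, two, add_zero])))
        rcases this with e | e | e
        · exact x0 (add_eq_left.1 e)
        · exact n2 (by rw [← e, add_assoc, two, add_zero])
        · exact n1 (add_right_cancel e)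
    obtain ⟨y, z, yz, rfl⟩ := Set.ncard_eq_two.1 e2
    by_cases hz : z = y + (p + q)
    · subst hz
      exact ⟨w, hw.1, hw.2, w, Or.inl rfl, key y w (fun e => hw.2 (Or.inl e)) fun e => hw.2 (Or.inr e)⟩
    have hy := Set.disjoint_right.1 h1 (Or.inl rfl : y ∈ ({y, z} : Set I))
    refine ⟨y + (p + q), ?_, ?_, z, Or.inr (Or.inr rfl), ?_⟩
    · rintro (e | e)
      · exact hy (Or.inr (show y = q by
          rw [← add_left_inj (p + q), e, add_left_comm, two, add_zero]))
      · exact hy (Or.inl (by rw [← add_left_inj (p + q), e, ← add_assoc, two, zero_add]))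
    · rintro (e | e)
      exacts [x0 (add_eq_left.1 e), hz e.symm]
    · have : ({y + (p + q), y, z} : Set I) = {z, y, y + (p + q)} := by ext; simp; tauto
      rw [this]
      exact key y z yz.symm hz
  have inj : Function.Injective fun v : I => v + v := fun x y e => sub_eq_zero.1
    ((nsmul_eq_zero_iff_of_coprime (Nat.prime_two.coprime_iff_not_dvd.2 h2)).1
      ⟨by rw [two_nsmul, sub_add_sub_comm]; exact sub_eq_zero.2 e, card_nsmul_eq_zero'⟩)
  obtain ⟨m, hm⟩ := Finite.injective_iff_surjective.1 inj (p + q)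
  have key : ∀ a : X, (∀ i, a • i ∈ ({p, q} : Set I) ↔ i ∈ ({p, q} : Set I)) → a • m = m := fun a ha => by
    obtain ⟨t, h, e⟩ := hth a
    have : a • p + a • q = p + q := (sw a ha).elim (fun e => by rw [e.1, e.2]) fun e => by
      rw [e.1, e.2, add_comm]
    refine inj (Eq.trans ?_ (this.trans hm.symm))
    simp only at hm ⊢
    rw [e, e, e, add_add_add_comm, ← smul_add, hm, smul_add, add_add_add_comm]
  by_cases hm2 : m ∈ S₂
  · exact ⟨w, hw.1, hw.2, m, Or.inr hm2, fun a ha _ => key a ha⟩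
  refine ⟨m, ?_, hm2, m, Or.inl rfl, fun a ha _ => key a ha⟩
  rintro (e | e) <;> subst e
  exacts [pq (add_left_cancel hm), pq (add_right_cancel hm).symm]

theorem col_three (prim : Prm X I) (h2 : 2 ≤ Nat.card I) : PP X (Col I (Fin 3)) I (Fin 5) 1 := by
  by_cases h4 : Nat.card I ≤ 4
  · obtain e | e | e : Nat.card I = 2 ∨ Nat.card I = 3 ∨ Nat.card I = 4 := by omega
    · exact pp_tri (x := 1) (y := 1) (x' := 2) (y' := 0) (tri_small (by omega) (by omega) (by omega) (by omega))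
        (tri_small (by omega) (by omega) (by omega) (by omega)) (by rw [e]; decide)
    · exact pp_tri (x := 2) (y := 0) (x' := 0) (y' := 2) (tri_small (by omega) (by omega) (by omega) (by omega))
        (tri_small (by omega) (by omega) (by omega) (by omega)) (by rw [e]; decide)
    · exact pp_tri (x := 2) (y := 2) (x' := 2) (y' := 1) (tri_small (by omega) (by omega) (by omega) (by omega))
        (tri_small (by omega) (by omega) (by omega) (by omega)) (by rw [e]; decide)
  by_cases h7 : Nat.card I ≤ 7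
  · obtain ⟨B, h1, hB⟩ := exists_bas_two prim (by
      obtain e | e | e : Nat.card I = 5 ∨ Nat.card I = 6 ∨ Nat.card I = 7 := by omega
      all_goals rw [e]
      · exact Nat.prime_five.squarefree
      · exact (Nat.squarefree_mul (by norm_num : Nat.Coprime 2 3)).2
          ⟨Nat.prime_two.squarefree, Nat.prime_three.squarefree⟩
      · exact (by norm_num : Nat.Prime 7).squarefree)
    obtain ⟨S, s1, -, s2⟩ := Set.exists_subsuperset_card_eq (Set.subset_univ B) h1 (by rwa [Set.ncard_univ])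
    refine pp_tri (tri_of (Set.disjoint_empty S) s2 (Set.ncard_empty _) le_rfl (Nat.zero_le _)
      (hB.mono (s1.trans Set.subset_union_left))) (tri_of (Set.empty_disjoint S) (Set.ncard_empty _) s2
        (Nat.zero_le _) le_rfl (hB.mono (s1.trans Set.subset_union_right))) ?_
    obtain e | e | e : Nat.card I = 5 ∨ Nat.card I = 6 ∨ Nat.card I = 7 := by omega
    all_goals rw [e]; decide
  obtain ⟨B, h1, hB⟩ := exists_bas_four prim
  obtain ⟨S, s1, -, s2⟩ := Set.exists_subsuperset_card_eq (Set.subset_univ B) h1 (by rw [Set.ncard_univ]; omega)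
  obtain ⟨S₁, s3, s4⟩ := Set.exists_subset_card_eq (s := S) (n := 2) (by omega)
  have s5 : (S \ S₁).ncard = 2 := by rw [Set.ncard_sdiff s3, s2, s4]
  have hB' : Bas X (S₁ ∪ S \ S₁) := hB.mono (by rwa [Set.union_sdiff_cancel s3])
  obtain ⟨w, w1, w2, m, hm, hw⟩ := exists_third prim (by omega) Set.disjoint_sdiff_right s4 s5
  have s6 : (insert w (S \ S₁)).ncard = 3 := by rw [Set.ncard_insert_of_notMem w2, s5]
  refine pp_tri (tri_of Set.disjoint_sdiff_right s4 s5 le_rfl le_rfl hB') (x' := 2) (y' := 3)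
    ⟨S₁, insert w (S \ S₁), Set.disjoint_insert_right.2 ⟨w1, Set.disjoint_sdiff_right⟩, s4, s6,
      fun T e1 e2 a ha => hB' a fun i hi => hi.elim
        (sm_set (n := 2) s4.le (by norm_num) (fun a ha i => (e1 a ha i).2) ha) fun hi => ?_⟩ ?_
  · by_cases e : i = m
    · exact e ▸ hw a (e1 a (dS_le _ _ ha)) (e2 a (dS_le _ _ ha))
    refine sm_set (S := insert w (S \ S₁) \ {m}) (n := 2) (by rw [Set.ncard_sdiff_singleton_of_mem hm, s6])
      (by norm_num) (fun a ha i hi => ⟨(e2 a ha i).2 hi.1, fun e => hi.2 ?_⟩) ha ⟨Or.inr hi, e⟩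
    exact smul_left_cancel a (e.trans (hw a (e1 a ha) (e2 a ha)).symm)
  · intro c c'
    fin_cases c <;> fin_cases c' <;> simp [Fin.forall_fin_succ] <;> omega

end Cfsg.Lib.DL9
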