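import Cfsg.Agent.Lib.DL9.Basic

/-!
Derived length of stabilisers: imprimitive modules.
-/

set_option autoImplicit false
set_option linter.style.haveILetI false
set_option linter.unusedSectionVars false

namespace Cfsg.Lib.DL9

open Subgroup MulAction Cfsg.Lib.SL
open scoped Pointwise

/-- primitive action -/
def Prm (X I : Type*) [Group X] [MulAction X I] : Prop :=
  ∀ s : Setoid I, (∀ (a : X) i j, s i j → s (a • i) (a • j)) → (∀ i j, s i j → i = j) ∨ ∀ i j, s i j

variable {A V : Type*} [Group A] [AddCommGroup V] [DistribMulAction A V] {W : AddSubgroup V}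

theorem blk_inv (j : orbit A W) {a : A} (e : a • j = j) {v : V} (hv : v ∈ (j : AddSubgroup V)) :
    a • v ∈ (j : AddSubgroup V) := by
  have := (orbit_mem a j v).2 hv
  rwa [e] at this

instance blkAct (j : orbit A W) : DistribMulAction (stabilizer A j) (j : AddSubgroup V) :=
  invAct (stabilizer A j) (j : AddSubgroup V) fun a _ hv => blk_inv j a.2 hv

theorem blk_smul (j : orbit A W) (a : stabilizer A j) (v : (j : AddSubgroup V)) :
    ((a • v : (j : AddSubgroup V)) : V) = (a : A) • (v : V) := rfl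

theorem blk_card (j : orbit A W) : Nat.card (j : AddSubgroup V) = Nat.card W := by
  obtain ⟨a, rfl⟩ := orbit_tr j ⟨W, mem_orbit_self W⟩
  exact (Nat.card_congr (Equiv.subtypeEquiv (toPerm a) fun v =>
    (orbit_mem a ⟨W, mem_orbit_self W⟩ v).symm)).symm

section

variable [Fintype (orbit A W)]

theorem blk_dec (irr : Irr A V) (h0 : W ≠ ⊥) (v : V) :
    ∃ s : orbit A W → V, (∀ j : orbit A W, s j ∈ (j : AddSubgroup V)) ∧ ∑ j, s j = v := by
  obtain ⟨s, hs, e⟩ := exists_sum irr ⟨W, mem_orbit_self W⟩ h0 (fun a e v hv => blk_inv _ e hv) v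
  refine ⟨s, fun j => ?_, e⟩
  obtain ⟨b, rfl⟩ := orbit_tr j ⟨W, mem_orbit_self W⟩
  rw [← smul_inv_smul b (s _), orbit_mem]
  exact hs _ b rfl

theorem blk_irr (irr : Irr A V) (hW : Indep A W) (j : orbit A W) :
    Irr (stabilizer A j) (j : AddSubgroup V) := fun W' h =>
  or_iff_not_imp_left.2 fun e => eq_top_iff.2 fun v _ => by
    obtain ⟨w, hw, e⟩ := hW.le irr j (W' := W'.map (AddSubgroup.subtype _)) (by
      rwa [Ne, AddSubgroup.map_eq_bot_iff_of_injective _ Subtype.val_injective])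
      (AddSubgroup.map_subtype_le _) (by
        rintro a ha _ ⟨w, hw, rfl⟩
        exact ⟨_, h ⟨a, ha⟩ w hw, rfl⟩) v.2
    exact (Subtype.ext e : w = v) ▸ hw

theorem blk_pow (irr : Irr A V) (h0 : W ≠ ⊥) (hW : Indep A W) :
    Nat.card V = Nat.card W ^ Nat.card (orbit A W) := by
  have := Nat.card_congr (Equiv.ofBijective (fun s : (∀ j : orbit A W, (j : AddSubgroup V)) =>
    ∑ j, (s j : V)) ⟨fun s s' e => funext fun j => Subtype.ext
      (hW.eq (fun j => (s j).2) (fun j => (s' j).2) e j), fun v => by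
        obtain ⟨s, hs, e⟩ := blk_dec irr h0 v
        exact ⟨fun j => ⟨s j, hs j⟩, e⟩⟩)
  rw [← this, Nat.card_pi, Finset.prod_congr rfl fun j _ => blk_card j, Finset.prod_const, Finset.card_univ,
    Nat.card_eq_fintype_card (α := orbit A W)]

theorem blk_fix (irr : Irr A V) (h0 : W ≠ ⊥) {a : A}
    (h : ∀ j : orbit A W, ∀ v ∈ (j : AddSubgroup V), a • v = v) (v : V) : a • v = v := by
  obtain ⟨s, hs, rfl⟩ := blk_dec irr h0 v
  rw [Finset.smul_sum]
  exact Finset.sum_congr rfl fun j _ => h j _ (hs j)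

theorem blk_eq (hW : Indep A W) {s s' : orbit A W → V} (hs : ∀ j : orbit A W, s j ∈ (j : AddSubgroup V))
    (hs' : ∀ j : orbit A W, s' j ∈ (j : AddSubgroup V)) {a : A} (e : a • ∑ j, s j = ∑ j, s' j)
    (j : orbit A W) : a • s j = s' (a • j) := by
  have := hW.eq (s := fun j => a • s (a⁻¹ • j)) (s' := s')
    (fun j => by simpa using (orbit_mem a (a⁻¹ • j) _).2 (hs _)) hs' (by
      refine Eq.trans ?_ e
      rw [Finset.smul_sum]
      exact Equiv.sum_comp (toPerm a⁻¹) fun j => a • s j) (a • j)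
  simpa using this

theorem imp_sm (irr : Irr A V) (h0 : W ≠ ⊥) {d d' : ℕ} (h1 : Sm (orbit A W) (⊤ : Subgroup A) d')
    (h2 : ∀ j : orbit A W, Sm (j : AddSubgroup V) (⊤ : Subgroup (stabilizer A j)) d) :
    Sm V (⊤ : Subgroup A) (d' + d) := fun a ha => blk_fix irr h0 fun j v hv => by
  rw [dS_add] at ha
  obtain ⟨b, hb, rfl⟩ := dS_sub (N := stabilizer A j) (fun b hb => h1 b hb j) ha
  exact congrArg Subtype.val (h2 j b (dS_mono le_top _ hb) ⟨v, hv⟩)

theorem imp_step (irr : Irr A V) (h0 : W ≠ ⊥) (hW : Indep A W) {C C' : Type*} {d d' : ℕ}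
    (h1 : PP A (Col (orbit A W) C) (orbit A W) C' d')
    (h2 : ∀ j : orbit A W, PP (stabilizer A j) (j : AddSubgroup V) (j : AddSubgroup V) C d) :
    PP A V V C' (d' + d) := by
  obtain ⟨σ, h3, h4⟩ := transport' (X := A) (E := orbit A W × V) (C := C) Prod.fst (fun _ _ => rfl)
    (fun e => e.2 ∈ (e.1 : AddSubgroup V) ∧
      ∀ a ∈ dS (stabilizer A e) d, ∀ v ∈ (e.1 : AddSubgroup V), a • v = v) (by
      rintro a ⟨j, x⟩ ⟨e1, e2⟩
      refine ⟨(orbit_mem a j x).2 e1, fun b hb v hv => ?_⟩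
      have := e2 _ (dS_mem (MulAut.conj a⁻¹).toMonoidHom (T := stabilizer A (j, x)) (fun c hc => by
        change (a⁻¹ * c * a⁻¹⁻¹) • (j, x) = (j, x)
        rw [inv_inv, mul_smul, mul_smul, mem_stabilizer_iff.1 hc, inv_smul_smul]) hb) (a⁻¹ • v)
        ((orbit_mem a j _).1 (by rwa [smul_inv_smul]))
      change (a⁻¹ * b * a⁻¹⁻¹) • _ = _ at this
      rwa [inv_inv, mul_smul, mul_smul, smul_inv_smul, smul_left_cancel_iff] at this) (fun j => by
      obtain ⟨g, g1, g2⟩ := h2 j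
      refine ⟨fun c => (j, g c), fun c => ⟨rfl, (g c).2, fun a ha v hv => ?_⟩, fun c c' a e =>
        g2 c c' ⟨a, congrArg Prod.fst e⟩ (Subtype.ext (congrArg Prod.snd e))⟩
      obtain ⟨b, hb, rfl⟩ := dS_sub (S := stabilizer A (j, (g c : V))) (N := stabilizer A j)
        (fun b hb => mem_stabilizer_iff.2 (congrArg Prod.fst (mem_stabilizer_iff.1 hb))) ha
      exact congrArg Subtype.val (g1 c b (dS_mono (fun b hb => Subtype.ext
        (congrArg Prod.snd (mem_stabilizer_iff.1 (mem_subgroupOf.1 hb)))) _ hb)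
        ⟨v, hv⟩))
  obtain ⟨col, c1, c2⟩ := h1
  have h5 : ∀ (j : orbit A W) c, (σ j c).2 ∈ (j : AddSubgroup V) := fun j c => by
    have := (h3 j c).2.1
    rwa [(h3 j c).1] at this
  have h6 : ∀ c c' (a : A), a • ∑ j, (σ j (col c j)).2 = ∑ j, (σ j (col c' j)).2 →
      ∀ j, a • σ j (col c j) = σ (a • j) (col c' (a • j)) := fun c c' a e j =>
    Prod.ext (by rw [Prod.smul_fst, (h3 _ _).1, (h3 _ _).1]) (blk_eq hW (fun j => h5 j _) (fun j => h5 j _) e j)
  have h7 : ∀ c c' (a : A), a • ∑ j, (σ j (col c j)).2 = ∑ j, (σ j (col c' j)).2 →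
      a • col c = col c' := fun c c' a e => (regCol_iff _ _ a).2 fun j => (h4 a j _ _ (h6 c c' a e j)).symm
  refine ⟨fun c => ∑ j, (σ j (col c j)).2, fun c a ha => blk_fix irr h0 fun j v hv => ?_,
    fun c c' a e => c2 c c' a (h7 c c' a e)⟩
  rw [dS_add] at ha
  refine (h3 j (col c j)).2.2 a (dS_mono (fun b hb => ?_) d ha) v (by rwa [(h3 j _).1])
  have := h6 c c b (dS_le _ _ hb) j
  rwa [c1 c b (dS_mono (fun b hb => h7 c c b hb) d' hb) j] at this

end

theorem exists_prim [Finite V] (irr : Irr A V) (h : ∃ W : AddSubgroup V, W ≠ ⊥ ∧ W ≠ ⊤ ∧ Indep A W) :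
    ∃ W : AddSubgroup V, W ≠ ⊥ ∧ W ≠ ⊤ ∧ Indep A W ∧ Prm A (orbit A W) := by
  classical
  obtain ⟨W₀, h⟩ := h
  obtain ⟨W, -, ⟨h0, h1, hW⟩, mx⟩ := Finite.exists_le_maximal
    (p := fun W : AddSubgroup V => W ≠ ⊥ ∧ W ≠ ⊤ ∧ Indep A W) h
  refine ⟨W, h0, h1, hW, fun s hs => ?_⟩
  haveI := Fintype.ofFinite (orbit A W)
  let j₀ : orbit A W := ⟨W, mem_orbit_self W⟩
  choose pr p1 p2 using blk_dec irr h0
  have pa : ∀ x y j, pr (x + y) j = pr x j + pr y j := fun x y j =>
    hW.eq (p1 _) (fun j => add_mem (p1 x j) (p1 y j)) (by rw [Finset.sum_add_distrib, p2, p2, p2]) j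
  let π : orbit A W → V →+ V := fun j => AddMonoidHom.mk' (fun x => pr x j) fun x y => pa x y j
  have ps : ∀ (a : A) x j, a • π j x = π (a • j) (a • x) := fun a x j =>
    blk_eq hW (p1 x) (p1 (a • x)) (by rw [p2, p2]) j
  have po : ∀ (j : orbit A W), ∀ x ∈ (j : AddSubgroup V), ∀ i, π i x = Pi.single (M := fun _ => V) j x i :=
    fun j x hx i => hW.eq (p1 x) (fun i => by
      by_cases h : i = j
      · subst h; rwa [Pi.single_eq_same]
      · rw [Pi.single_eq_of_ne h]; exact zero_mem _) (by simp [p2]) i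
  have nz : ∀ j : orbit A W, ∃ x ∈ (j : AddSubgroup V), x ≠ 0 := fun j => by
    by_contra! hc
    refine h0 (AddSubgroup.eq_bot_of_card_eq _ ?_)
    rw [← blk_card j, (AddSubgroup.eq_bot_iff_forall _).2 hc, AddSubgroup.card_bot]
  let cl : orbit A W → AddSubgroup V := fun j => ⨅ i : {i // ¬ s i j}, (π i).ker
  have mc : ∀ j x, x ∈ cl j ↔ ∀ i, ¬ s i j → π i x = 0 := fun j x => by simp [cl, AddSubgroup.mem_iInf]
  have hs' : ∀ (a : A) i j, s (a • i) (a • j) ↔ s i j := fun a i j =>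
    ⟨fun e => by simpa using hs a⁻¹ _ _ e, hs a i j⟩
  have cs : ∀ (a : A) j, a • cl j = cl (a • j) := fun a j => AddSubgroup.ext fun x => by
    rw [AddSubgroup.mem_pointwise_smul_iff_inv_smul_mem, mc, mc]
    refine ⟨fun e i hi => ?_, fun e i hi => ?_⟩
    · have := ps a (a⁻¹ • x) (a⁻¹ • i)
      rwa [smul_inv_smul, smul_inv_smul, e _ (by rwa [← hs' a, smul_inv_smul]), smul_zero, eq_comm] at this
    · have := ps a⁻¹ x (a • i)
      rwa [inv_smul_smul, e _ (by rwa [hs']), smul_zero, eq_comm] at this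
  have lc : ∀ i j, s i j → (i : AddSubgroup V) ≤ cl j := fun i j e x hx => (mc j x).2 fun k hk => by
    rw [po i x hx, Pi.single_eq_of_ne fun e' : k = i => hk (by rwa [e'])]
  by_cases ht : cl j₀ = ⊤
  · right
    have : ∀ i, s i j₀ := fun i => by
      by_contra hi
      obtain ⟨x, hx, x0⟩ := nz i
      have := (mc j₀ x).1 (ht ▸ AddSubgroup.mem_top x) i hi
      rw [po i x hx, Pi.single_eq_same] at this
      exact x0 this
    exact fun i j => s.trans (this i) (s.symm (this j))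
  left
  have h2 : cl j₀ ≤ W := mx ⟨fun e => h0 (eq_bot_iff.2 ((lc j₀ j₀ (s.refl _)).trans e.le)), ht,
    fun F t ht e k hk => by
      rw [← p2 (t k)]
      refine Finset.sum_eq_zero fun i _ => ?_
      obtain ⟨a, ha⟩ := k.2
      by_cases hi : s i (a • j₀)
      swap
      · exact (mc _ _).1 (by rw [← cs]; exact (show a • cl j₀ = k from ha) ▸ ht k hk) i hi
      have := congrArg (π i) e
      rw [map_sum, map_zero, Finset.sum_eq_single_of_mem k hk fun k' hk' ne => ?_] at this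
      · exact this
      obtain ⟨b, hb⟩ := k'.2
      refine (mc (b • j₀) _).1 (by rw [← cs]; exact (show b • cl j₀ = k' from hb) ▸ ht k' hk') i
        fun hi' => ne (Subtype.ext ?_)
      rw [← hb, ← ha]
      change b • cl j₀ = a • cl j₀
      rw [cs, cs]
      refine AddSubgroup.ext fun x => ?_
      rw [mc, mc]
      exact forall_congr' fun l => imp_congr_left (not_congr ⟨fun e => s.trans e (s.trans (s.symm hi') hi),
        fun e => s.trans e (s.trans (s.symm hi) hi')⟩)⟩ (lc j₀ j₀ (s.refl _))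
  intro i j e
  obtain ⟨a, rfl⟩ := orbit_tr j j₀
  obtain ⟨i, rfl⟩ := MulAction.surjective a i
  rw [hs'] at e
  by_contra ne
  obtain ⟨x, hx, x0⟩ := nz i
  have := po j₀ x (h2 (lc i j₀ e hx)) i
  rw [po i x hx, Pi.single_eq_same, Pi.single_eq_of_ne fun e => ne (by rw [e])] at this
  exact x0 this

theorem two_le_orbit [Finite V] (irr : Irr A V) (h0 : W ≠ ⊥) (h1 : W ≠ ⊤) (hW : Indep A W) :
    2 ≤ Nat.card (orbit A W) := by
  haveI := Fintype.ofFinite (orbit A W)
  haveI : Nonempty (orbit A W) := ⟨⟨W, mem_orbit_self W⟩⟩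
  have hV := blk_pow irr h0 hW
  by_contra hlt
  have h2 : Nat.card (orbit A W) = 1 := by have := Nat.card_pos (α := orbit A W); omega
  rw [h2, pow_one] at hV
  exact h1 (AddSubgroup.eq_top_of_card_eq W hV.symm)

end Cfsg.Lib.DL9
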