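import Cfsg.Agent.Lib.DL9.Col

/-!
A vector whose stabiliser has derived length at most nine.
-/

set_option autoImplicit false
set_option linter.style.haveILetI false
set_option linter.unusedSectionVars false

namespace Cfsg.Lib.DL9

open Subgroup MulAction Cfsg.Lib.SL Cfsg.Lib.KP
open scoped Pointwise

universe u

theorem exp_big {b c k j e₀ : ℕ} (h0 : 0 < e₀) (hj : j ≤ e₀) (h1 : (e₀ + 1) ^ k ≤ b * e₀ ^ k)
    (h2 : c * e₀ ^ k ≤ b ^ (e₀ - j)) {e : ℕ} (he : e₀ ≤ e) : c * e ^ k ≤ b ^ (e - j) := by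
  induction e, he using Nat.le_induction with
  | base => exact h2
  | succ e he ih =>
    have h3 := Nat.pow_le_pow_left (show e₀ * (e + 1) ≤ (e₀ + 1) * e by nlinarith) k
    rw [mul_pow, mul_pow] at h3
    have h4 : (e + 1) ^ k ≤ b * e ^ k := Nat.le_of_mul_le_mul_left
      (h3.trans ((Nat.mul_le_mul_right _ h1).trans_eq (by ring))) (Nat.pow_pos h0 (n := k))
    rw [Nat.succ_sub (hj.trans he), pow_succ]
    nlinarith [Nat.mul_le_mul_left c h4]

theorem ncard_ne_zero {V : Type*} [AddCommGroup V] [Finite V] : {v : V | v ≠ 0}.ncard = Nat.card V - 1 := by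
  rw [← Set.ncard_singleton (0 : V), ← Set.ncard_compl]; rfl

section

variable {A : Type u} {V K : Type*} [Group A] [AddCommGroup V] [DistribMulAction A V] [Field K] [Module K V]
  {U R : Subgroup A} (h : Pr V K U R) [Nontrivial V] [FaithfulSMul A V] [Finite A] [Finite V] [Finite K]

include h

theorem card_U_le : Nat.card U ≤ Nat.card K - 1 :=
  Nat.le_of_dvd (by have := Finite.one_lt_card (α := K); omega) (card_U_dvd h)

theorem ord_le [Group.IsSolvable A] {e : ℕ} (e2 : U.relIndex R = e ^ 2) (he : 2 ≤ e) :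
    4 * Nat.card A ≤ Nat.card K ^ 2 * e ^ 8 := by
  obtain ⟨p, f, hp, -, hK⟩ := exists_pf K
  have h1 : (lin A V K).index ≤ Nat.card K :=
    (lin_index h hp hK).trans (hK ▸ (Nat.lt_pow_self hp.one_lt).le)
  have h2 := al_gen h (by rw [e2]; nlinarith)
  rw [card_A h, kap_eq h, e2] at *
  calc _ = (lin A V K).index * Nat.card U * (e ^ 2 * (4 * R.relIndex (lin A V K))) := by ring
    _ ≤ Nat.card K * Nat.card K * (e ^ 2 * (e ^ 2) ^ 3) := Nat.mul_le_mul
      (Nat.mul_le_mul h1 ((card_U_le h).trans (Nat.sub_le _ _))) (Nat.mul_le_mul_left _ h2)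
    _ = _ := by ring

theorem eig_cover (e4 : 4 < U.relIndex R) (tr : ∀ v w : V, v ≠ 0 → w ≠ 0 → ∃ a : A, a • v = w) :
    Nat.card V < ((U.relIndex R - 1) * (Nat.card K - 1)) ^ 2 := by
  classical
  haveI := h.ur.nU
  haveI := h.ur.nR
  haveI := Fintype.ofFinite (R ⧸ U.subgroupOf R)
  obtain ⟨r, hr, hU, c, v, v0, e⟩ := exists_eig h e4
  have h1 := cover_le (fun x : {x : R ⧸ U.subgroupOf R // x ≠ 1} × Kˣ =>
    ((eig (x.1.1.out : A) (x.2 : K) : AddSubgroup V) : Set V) \ {0}) (M := (Nat.card V).sqrt - 1) fun x => by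
      rw [Set.ncard_sdiff_singleton_of_mem (zero_mem _)]
      refine Nat.sub_le_sub_right (Nat.le_sqrt'.2 (eig_sq h x.1.1.out.2 (fun e => x.1.2 ?_) x.2.ne_zero)) 1
      rw [← x.1.1.out_eq']; exact (QuotientGroup.eq_one_iff _).2 e
  have h2 : {w : V | w ≠ 0} ⊆ ⋃ x : {x : R ⧸ U.subgroupOf R // x ≠ 1} × Kˣ,
      ((eig (x.1.1.out : A) (x.2 : K) : AddSubgroup V) : Set V) \ {0} := fun w hw => by
    obtain ⟨a, rfl⟩ := tr v w v0 hw
    obtain ⟨σ, hσ⟩ := h.semi a
    let x : R ⧸ U.subgroupOf R := QuotientGroup.mk ⟨a * r * a⁻¹, h.ur.nR.conj_mem r hr a⟩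
    obtain ⟨t, ht⟩ := h.sc _ ((QuotientGroup.eq (s := U.subgroupOf R)
      (a := ⟨a * r * a⁻¹, h.ur.nR.conj_mem r hr a⟩)).1 x.out_eq'.symm)
    have e1 : (x.out : A) • a • v = (t * σ c) • a • v := by
      have := ht (a • v)
      change ((a * r * a⁻¹)⁻¹ * x.out) • _ = _ at this
      rw [mul_smul, inv_smul_eq_iff, R_le_lin h (h.ur.nR.conj_mem r hr a), mul_smul, mul_smul, inv_smul_smul,
        e, hσ, smul_smul t] at this
      exact this
    refine Set.mem_iUnion.2 ⟨(⟨x, fun e => hU ?_⟩, Units.mk0 (t * σ c) fun e => hw ?_), e1, hw⟩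
    · simpa [mul_assoc] using h.ur.nU.conj_mem _ ((QuotientGroup.eq_one_iff (N := U.subgroupOf R) _).1 e) a⁻¹
    · rwa [e, zero_smul, smul_eq_zero_iff_eq] at e1
  have h3 := (Set.ncard_le_ncard h2 (Set.toFinite _)).trans h1
  rw [ncard_ne_zero, Nat.card_prod, Nat.card_units, Nat.card_eq_fintype_card (α := {x // x ≠ 1}),
    Fintype.card_subtype_compl, Fintype.card_subtype_eq, ← Nat.card_eq_fintype_card] at h3
  change _ ≤ (U.relIndex R - 1) * _ * _ at h3
  generalize (U.relIndex R - 1) * (Nat.card K - 1) = c at *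
  have h4 := Nat.sqrt_le' (Nat.card V)
  have h5 := Nat.lt_succ_sqrt' (Nat.card V)
  have h6 : 1 < Nat.card V := Finite.one_lt_card
  obtain ⟨m, hm⟩ : ∃ m, (Nat.card V).sqrt = m + 1 := ⟨_, (Nat.succ_pred_eq_of_pos (Nat.sqrt_pos.2 (by omega))).symm⟩
  rw [hm] at h3 h4 h5
  refine h5.trans_le (Nat.pow_le_pow_left ?_ 2)
  by_contra hc
  have : Nat.card V ≤ c * m + 1 := by simpa using h3
  rcases m with _ | m <;> nlinarith

theorem not_41 (hK : Nat.card K = 3) (e : U.relIndex R = 64) : ¬ 41 ∣ Nat.card A := by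
  intro hd
  haveI : Fact (Nat.Prime 41) := ⟨by norm_num⟩
  obtain ⟨a, ha⟩ := exists_prime_orderOf_dvd_card' 41 hd
  obtain ⟨W, _, _, _, w1, -, π, -, w3⟩ := exists_mod h
  have h1 := (IsPGroup.of_card (p := 41) (n := 1) (G := zpowers a) (by
    rw [Nat.card_zpowers, ha, pow_one])).card_modEq_card_fixedPoints W
  have h2 : Nat.card (fixedPoints (zpowers a) W) ∣ Nat.card W :=
    AddSubgroup.card_addSubgroup_dvd_card (FixedPoints.addSubgroup (zpowers a) W)
  have h3 : FixedPoints.addSubgroup (zpowers a) W = ⊤ := AddSubgroup.eq_top_of_card_eq _ (by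
    change Nat.card (fixedPoints (zpowers a) W) = _
    rw [w1, e] at *
    have := Nat.le_of_dvd (by norm_num) h2
    generalize Nat.card (fixedPoints (zpowers a) W) = n at *
    unfold Nat.ModEq at h1
    obtain rfl | rfl : n = 23 ∨ n = 64 := by omega
    · norm_num at h2
    · rfl)
  have h4 : a ∈ R := mem_R_of h (by simpa using pow_lin h Nat.prime_three (f := 1) hK a) fun r hr =>
    (w3 a ⟨r, hr⟩).1 (h3.ge (AddSubgroup.mem_top _) ⟨a, mem_zpowers a⟩)
  have h5 := orderOf_dvd_natCard (⟨a, h4⟩ : R)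
  rw [orderOf_mk, ha, ← (U.subgroupOf R).index_mul_card, Nat.card_congr (subgroupOfEquivOfLe h.ur.le).toEquiv] at h5
  have h6 := h5.trans (Nat.mul_dvd_mul (dvd_of_eq e) (card_U_dvd h))
  rw [hK] at h6
  norm_num at h6

theorem not_trans {d e : ℕ} (e1 : Nat.card V = Nat.card K ^ d) (ed : e ≤ d) (e2 : U.relIndex R = e ^ 2)
    (e3 : ∀ r, r.Prime → r ∣ e → r ∣ Nat.card K - 1) (he : 8 ≤ e) :
    ∃ v w : V, v ≠ 0 ∧ w ≠ 0 ∧ ∀ a : A, a • v ≠ w := by
  by_contra! tr
  have h1 := eig_cover h (by rw [e2]; nlinarith) tr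
  have q2 := lt_of_prime_dvd Finite.one_lt_card (by omega) e3
  have q3 := (Nat.minFac_prime (n := e) (by omega)).two_le
  rw [e1, e2] at h1
  by_cases hK : Nat.card K = 3
  swap
  · have h2 := exp_big (b := 4) (c := 1) (k := 4) (j := 2) (by norm_num) (by norm_num) (by norm_num)
      (by norm_num) he
    refine h1.not_ge ((Nat.pow_le_pow_left (Nat.mul_le_mul (Nat.sub_le _ _) (Nat.sub_le _ _)) 2).trans ?_)
    calc _ = 1 * e ^ 4 * Nat.card K ^ 2 := by ring
      _ ≤ Nat.card K ^ (e - 2) * Nat.card K ^ 2 :=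
        Nat.mul_le_mul_right _ (h2.trans (Nat.pow_le_pow_left (by omega) _))
      _ ≤ _ := by rw [← pow_add]; exact Nat.pow_le_pow_right (by omega) (by omega)
  rw [hK] at h1 e3 e1
  by_cases h10 : 10 ≤ e
  · have h2 := exp_big (b := 3) (c := 4) (k := 4) (j := 0) (by norm_num) (by norm_num) (by norm_num)
      (by norm_num) h10
    refine h1.not_ge ((Nat.pow_le_pow_left (Nat.mul_le_mul_right _ (Nat.sub_le _ _)) 2).trans ?_)
    exact le_trans (le_of_eq (by ring)) (h2.trans (Nat.pow_le_pow_right (by norm_num) ed))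
  obtain rfl | rfl : e = 8 ∨ e = 9 := by omega
  swap
  · exact absurd (e3 3 Nat.prime_three (by norm_num)) (by norm_num)
  obtain rfl : d = 8 := le_antisymm (by
    by_contra hc
    have := Nat.pow_le_pow_right (show 0 < 3 by norm_num) (show 9 ≤ d by omega)
    omega) ed
  obtain ⟨v, hv⟩ := exists_ne (0 : V)
  refine not_41 h hK e2 (Dvd.dvd.trans ?_ (stabilizer A v).index_dvd_card)
  rw [index_stabilizer, show orbit A v = {w : V | w ≠ 0} from Set.ext fun w => ⟨by
    rintro ⟨a, rfl⟩; exact mt (smul_eq_zero_iff_eq a).1 hv, tr v w hv⟩, ncard_ne_zero, e1]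
  norm_num

end

/-- the three possible configurations -/
def Gd (A V : Type*) [Group A] [MulAction A V] : Prop :=
  PP A V V (Fin 2) 6 ∨ PP A V V (Fin 3) 8 ∨ PP A V V (Fin 5) 9

theorem gd_prim {A : Type u} {V : Type u} {K : Type*} [Group A] [AddCommGroup V] [DistribMulAction A V] [Field K]
    [Module K V] {U R : Subgroup A} (h : Pr V K U R) [Nontrivial V] [FaithfulSMul A V] [Finite A] [Finite V]
    [Finite K] [Group.IsSolvable A] : Gd A V := by
  obtain ⟨d, e, e1, e0, ed, e2, e3⟩ := prim1 h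
  obtain ⟨W, _, _, _, w1, w2, π, -, w3⟩ := exists_mod h
  have key : ∀ k, 1 ≤ k → e ≤ 256 → dl (e ^ 2) ≤ k → dS ⊤ (k + 1) ≤ U := fun k k1 k2 k3 =>
    dS_U h (dS_R h w3 k1 ((dl_cr (by rw [w1, e2]; nlinarith) w2).mono le_rfl (by rwa [w1, e2])))
  by_cases h7 : e ≤ 7
  · obtain ⟨v, hv⟩ := exists_ne (0 : V)
    refine Or.inl ⟨![0, v], fun c => (sm_top h (key 4 (by norm_num) (by omega)
      (dl_mono (n := 49) (by nlinarith)))).mono le_top le_rfl, fun c c' a => ?_⟩
    fin_cases c <;> fin_cases c' <;> simp [hv, hv.symm, smul_eq_zero_iff_eq]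
  by_cases h63 : e ≤ 63
  · obtain ⟨v, w, hv, hw, hn⟩ := not_trans h e1 ed e2 e3 (by omega)
    refine Or.inr (Or.inl ⟨![0, v, w], fun c => (sm_top h (key 6 (by norm_num) (by omega)
      (dl_mono (n := 4095) (by nlinarith)))).mono le_top le_rfl, fun c c' a => ?_⟩)
    have hn' : a • w ≠ v := fun e => hn a⁻¹ (inv_smul_eq_iff.2 e.symm)
    fin_cases c <;> fin_cases c' <;> simp [hv, hv.symm, hw, hw.symm, hn, hn', smul_eq_zero_iff_eq]
  right; right
  have q2 := lt_of_prime_dvd Finite.one_lt_card (by omega) e3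
  have q3 := (Nat.minFac_prime (n := e) (by omega)).two_le
  have h1 := ord_le h e2 (by omega)
  have pw : ∀ j ≤ e, Nat.card K ^ j * 3 ^ (e - j) ≤ Nat.card V := fun j hj =>
    (Nat.mul_le_mul_left _ (Nat.pow_le_pow_left (show 3 ≤ Nat.card K by omega) _)).trans (by
      rw [← pow_add, e1]; exact Nat.pow_le_pow_right (by omega) (by omega))
  have a0 : 0 < Nat.card A := Nat.card_pos
  by_cases h256 : e ≤ 256
  · have h2 := exp_big (b := 3) (c := 2) (k := 8) (j := 2) (e₀ := 64) (by norm_num) (by norm_num) (by norm_num)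
      (by norm_num) (show 64 ≤ e by omega)
    have h3 := (Nat.mul_le_mul_left _ h2).trans (pw 2 (by omega))
    obtain ⟨g, g1, g2⟩ := exists_ineq (A := A) {v : V | v ≠ 0} (Set.toFinite _) 4 (by
      rw [ncard_ne_zero, lt_tsub_iff_right]; nlinarith)
    exact ⟨g, fun c => sm_stab h (key 8 (by norm_num) h256 (dl_mono (n := 65536) (by nlinarith))) (g1 c), g2⟩
  have h2 := exp_big (b := 3) (c := 32) (k := 32) (j := 8) (e₀ := 256) (by norm_num) (by norm_num) (by norm_num)
    (by norm_num) (show 256 ≤ e by omega)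
  have h3 := (Nat.mul_le_mul_left _ h2).trans (pw 8 (by omega))
  have h4 := good_count (K := K) (V := V) (lin A V K) (M := Nat.nthRoot 4 (Nat.card V ^ 3)) fun a ha h1 =>
    (Nat.le_nthRoot_iff (by norm_num)).2 (fix_four h ha h1)
  have h5 : Nat.nthRoot 4 (Nat.card V ^ 3) ^ 4 ≤ Nat.card V ^ 3 := Nat.pow_nthRoot_le_iff.2 (Or.inl (by norm_num))
  have v0 : 0 < Nat.card V := Nat.card_pos
  have h6 : 1 ≤ Nat.nthRoot 4 (Nat.card V ^ 3) :=
    (Nat.le_nthRoot_iff (by norm_num)).2 (by simpa using Nat.one_le_pow _ _ v0)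
  have h8 : Nat.card (lin A V K) ≤ Nat.card A := Nat.card_le_card_of_injective _ Subtype.val_injective
  generalize Nat.nthRoot 4 (Nat.card V ^ 3) = M at *
  have h9 : 8 * Nat.card A * M ≤ Nat.card V := (Nat.pow_le_pow_iff_left (n := 4) (by norm_num)).1 (by
    have := Nat.pow_le_pow_left h1 4
    calc _ = 16 * (4 * Nat.card A) ^ 4 * M ^ 4 := by ring
      _ ≤ Nat.card V * Nat.card V ^ 3 := Nat.mul_le_mul (by nlinarith) h5
      _ = _ := by ring)
  obtain ⟨g, g1, g2⟩ := exists_ineq (A := A) {v : V | ∀ a ∈ lin A V K, a • v = v → a = 1} (Set.toFinite _) 4 (by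
    nlinarith [Nat.mul_le_mul_right M h8, Nat.mul_le_mul_left (Nat.card A) h6])
  exact ⟨g, fun c => (sm_free h (dS_lin h) (g1 c)).mono le_rfl (by norm_num), g2⟩

theorem pp_blk {A V C : Type*} [Group A] [AddCommGroup V] [DistribMulAction A V] {W : AddSubgroup V} {d : ℕ}
    (i : orbit A W) (h : PP (stabilizer A i) (i : AddSubgroup V) (i : AddSubgroup V) C d) (j : orbit A W) :
    PP (stabilizer A j) (j : AddSubgroup V) (j : AddSubgroup V) C d := by
  obtain ⟨b, rfl⟩ := orbit_tr j i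
  obtain ⟨g, g1, g2⟩ := h
  let φ : stabilizer A (b • i) →* stabilizer A i := ((MulAut.conj b⁻¹).toMonoidHom.comp (Subgroup.subtype _)).codRestrict
    _ fun a => by
      change (b⁻¹ * a * b⁻¹⁻¹) • i = i
      rw [inv_inv, mul_smul, mul_smul, a.2, inv_smul_smul]
  have hφ : ∀ (a : stabilizer A (b • i)) (v : V), b • (φ a : A) • v = (a : A) • b • v := fun a v => by
    change b • (b⁻¹ * a * b⁻¹⁻¹) • v = _
    rw [inv_inv, mul_smul, mul_smul, smul_inv_smul]
  refine ⟨fun c => ⟨b • (g c : V), (orbit_mem b i _).2 (g c).2⟩, fun c a ha x => Subtype.ext ?_,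
    fun c c' a e => g2 c c' (φ a) (Subtype.ext (smul_left_cancel b ((hφ a _).trans (congrArg Subtype.val e))))⟩
  have := g1 c _ (dS_mem φ (fun a e => Subtype.ext (smul_left_cancel b
    ((hφ a _).trans (congrArg Subtype.val (mem_stabilizer_iff.1 e))))) ha)
    ⟨b⁻¹ • (x : V), (orbit_mem b i _).1 (by rw [smul_inv_smul]; exact x.2)⟩
  have h2 := (hφ a _).symm.trans (congrArg (fun y : (i : AddSubgroup V) => b • (y : V)) this)
  rw [blk_smul]
  simpa using h2

theorem PP.range {A V C : Type*} [Group A] [AddCommGroup V] [DistribMulAction A V] {d : ℕ}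
    (h : PP (emb A V).range V V C d) : PP A V V C d :=
  h.of_hom (emb A V).rangeRestrict (fun _ _ => rfl) fun _ _ => rfl

theorem gd_irr (n : ℕ) (A : Type*) (V : Type u) [Group A] [Finite A] [Group.IsSolvable A] [AddCommGroup V]
    [Finite V] [Nontrivial V] [DistribMulAction A V] (hV : Nat.card V = n) (irr : Irr A V) : Gd A V := by
  suffices H : ∀ (A V : Type u) [Group A] [Finite A] [Group.IsSolvable A] [AddCommGroup V] [Finite V]
      [Nontrivial V] [DistribMulAction A V] [FaithfulSMul A V], Nat.card V = n → Irr A V → Gd A V from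
    (H _ V hV (irr_range irr)).imp PP.range (Or.imp PP.range PP.range)
  clear hV
  induction n using Nat.strong_induction_on with
  | _ n ih =>
  intro A V _ _ _ _ _ _ _ _ hV irr
  rcases dich' (A := A) (V := V) with h | ⟨K, _, _, _, U, R, h⟩
  swap
  · exact gd_prim h
  obtain ⟨W, h0, h1, hW, prim⟩ := exists_prim irr h
  haveI := Fintype.ofFinite (orbit A W)
  have e := blk_pow irr h0 hW
  have t2 := two_le_orbit irr h0 h1 hW
  have w2 : 2 ≤ Nat.card W := (AddSubgroup.one_lt_card_iff_ne_bot W).2 h0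
  have lt2 : Nat.card W < n := hV ▸ e ▸ by nlinarith [Nat.pow_le_pow_right (zero_lt_two.trans_le w2) t2]
  haveI : Nonempty (orbit A W) := ⟨⟨W, mem_orbit_self W⟩⟩
  obtain ⟨j₀⟩ := this
  haveI : Nontrivial (j₀ : AddSubgroup V) := Finite.one_lt_card_iff_nontrivial.1 (by rw [blk_card]; exact w2)
  have g : Gd (stabilizer A j₀) (j₀ : AddSubgroup V) :=
    (ih _ lt2 _ (j₀ : AddSubgroup V) (blk_card j₀) (irr_range (blk_irr irr hW j₀))).imp PP.range (Or.imp PP.range PP.range)
  haveI : Nonempty (orbit A W) := ⟨j₀⟩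
  rcases g with g | g | g
  · by_cases h4 : 4 ≤ Nat.card (orbit A W)
    · exact Or.inr (Or.inr (imp_step irr h0 hW (col_two prim h4) (pp_blk j₀ g)))
    · exact Or.inr (Or.inl (imp_step irr h0 hW (pp_small t2 ((perm_sm _ (by omega) A _ rfl).mono le_rfl
        (d' := 2) (by unfold pl; split_ifs <;> omega))) (pp_blk j₀ g)))
  · exact Or.inr (Or.inr (imp_step irr h0 hW (col_three prim t2) (pp_blk j₀ g)))
  · exact Or.inr (Or.inr (imp_step irr h0 hW col_five (pp_blk j₀ g)))

theorem nine_irr {A : Type*} {V : Type u} [Group A] [Finite A] [Group.IsSolvable A] [AddCommGroup V]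
    [Finite V] [DistribMulAction A V] (irr : Irr A V) : ∃ v : V, Sm V (stabilizer A v) 9 := by
  rcases subsingleton_or_nontrivial V with hs | hs
  · exact ⟨0, fun _ _ _ => Subsingleton.elim _ _⟩
  rcases gd_irr _ A V rfl irr with ⟨g, h, -⟩ | ⟨g, h, -⟩ | ⟨g, h, -⟩
  all_goals exact ⟨g 0, (h 0).mono le_rfl (by norm_num)⟩

end Cfsg.Lib.DL9
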