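import Cfsg.Agent.Lib.DL9.Nine

/-!
A vector with abelian stabiliser for groups of odd order in odd characteristic.
-/

set_option autoImplicit false
set_option linter.style.haveILetI false
set_option linter.unusedSectionVars false

namespace Cfsg.Lib.DL9

open Subgroup MulAction Cfsg.Lib.SL Cfsg.Lib.KP
open scoped Pointwise

universe u

section

variable {A : Type u} {V K : Type*} [Group A] [AddCommGroup V] [DistribMulAction A V] [Field K] [Module K V]
  {U R : Subgroup A} (h : Pr V K U R) [Nontrivial V] [FaithfulSMul A V] [Finite A] [Finite V] [Finite K]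

include h

theorem exists_mod' : ∃ (W : Type u) (_ : AddCommGroup W) (_ : Finite W) (_ : DistribMulAction A W),
    Nat.card W = U.relIndex R ∧ CR A W ∧
    (∀ S : AddSubgroup W, Iv A S → (∃ w : W, ∀ s ∈ S, ∃ k : ℤ, s = k • w) → S = ⊥) ∧
    ∃ π : R → W, Function.Surjective π ∧ ∀ (a : A) (r : R), a • π r = π r ↔ (r : A) ∈ fx h a := by
  haveI := h.ur.nU
  haveI := h.ur.nR
  letI := cgQ h (B := U) le_rfl le_rfl
  let ψ : A → R ⧸ U.subgroupOf R →* R ⧸ U.subgroupOf R := fun a =>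
    QuotientGroup.map _ _ (MulAut.conjNormal a : MulAut R).toMonoidHom fun n hn => h.ur.nU.conj_mem _ hn a
  letI : DistribMulAction A (Additive (R ⧸ U.subgroupOf R)) :=
    { smul := fun a v => Additive.ofMul (ψ a v.toMul)
      one_smul := fun v => QuotientGroup.induction_on v fun k =>
        congrArg QuotientGroup.mk (DFunLike.congr_fun (map_one (MulAut.conjNormal (H := R))) k)
      mul_smul := fun a b v => QuotientGroup.induction_on v fun k =>
        congrArg QuotientGroup.mk (DFunLike.congr_fun (map_mul (MulAut.conjNormal (H := R)) a b) k)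
      smul_zero := fun a => (ψ a).map_one
      smul_add := fun a => (ψ a).map_mul }
  let π : R → Additive (R ⧸ U.subgroupOf R) := fun r => Additive.ofMul (QuotientGroup.mk r)
  have hπ : Function.Surjective π := fun v => QuotientGroup.mk_surjective (s := U.subgroupOf R) v
  have sm : ∀ (a : A) (r : R), a • π r = π ⟨a * r * a⁻¹, h.ur.nR.conj_mem _ r.2 a⟩ := fun _ _ => rfl
  have π0 : ∀ r : R, π r = 0 ↔ (r : A) ∈ U := fun r => QuotientGroup.eq_one_iff (N := U.subgroupOf R) r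
  have πe : ∀ r s : R, π r = π s ↔ (r : A)⁻¹ * s ∈ U := fun r s => QuotientGroup.eq (s := U.subgroupOf R)
  have pre : ∀ S : AddSubgroup (Additive (R ⧸ U.subgroupOf R)), Iv A S → ∃ B : Subgroup A,
      (∀ r : R, (r : A) ∈ B ↔ π r ∈ S) ∧ B ≤ R ∧ B.Normal := fun S hS => by
    let B : Subgroup A := (S.toSubgroup'.comap (QuotientGroup.mk' (U.subgroupOf R))).map R.subtype
    have hB : ∀ r : R, (r : A) ∈ B ↔ π r ∈ S := fun r =>
      ⟨fun ⟨s, hs, e⟩ => (Subtype.ext e : s = r) ▸ hs, fun e => ⟨r, e, rfl⟩⟩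
    have BR : B ≤ R := map_subtype_le _
    exact ⟨B, hB, BR, ⟨fun b hb a => (hB ⟨_, h.ur.nR.conj_mem _ (BR hb) a⟩).2
      (sm a ⟨b, BR hb⟩ ▸ hS a _ ((hB ⟨b, BR hb⟩).1 hb))⟩⟩
  refine ⟨Additive (R ⧸ U.subgroupOf R), inferInstance, inferInstance, inferInstance, rfl, fun S hS => ?_,
    fun S hS ⟨w, hw⟩ => eq_bot_iff.2 fun s hs => ?_, π, hπ, fun a r => by rw [sm, eq_comm, πe]; rfl⟩
  swap
  · obtain ⟨B, hB, BR, nB⟩ := pre S hS
    obtain ⟨r, rfl⟩ := hπ w
    obtain ⟨s, rfl⟩ := hπ s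
    have k : ∀ b ∈ B, ∃ k : ℤ, ∃ u ∈ U, b = (r : A) ^ k * u := fun b hb => by
      obtain ⟨k, hk⟩ := hw _ ((hB ⟨b, BR hb⟩).1 hb)
      exact ⟨k, _, (πe (r ^ k) ⟨b, BR hb⟩).1 hk.symm, by simp⟩
    refine (π0 s).2 (h.ur.center_le nB BR ((hB s).2 hs) fun b hb => ?_)
    obtain ⟨i, u, hu, e⟩ := k _ ((hB s).2 hs)
    obtain ⟨j, t, ht, rfl⟩ := k b hb
    have c1 : ∀ u ∈ U, ∀ r ∈ R, Commute u r := h.ur.cU
    rw [e]
    exact (((Commute.refl _).zpow_zpow _ _).mul_right (c1 u hu _ (zpow_mem r.2 _)).symm).mul_left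
      (c1 t ht _ (mul_mem (zpow_mem r.2 _) (h.ur.le hu)))
  obtain ⟨B, hB, BR, nB⟩ := pre S hS
  have UB : U ≤ B := fun u hu => (hB ⟨u, h.ur.le hu⟩).2 (((π0 ⟨u, h.ur.le hu⟩).2 hu).symm ▸ zero_mem S)
  let C := R ⊓ centralizer (B : Set A)
  have UC : U ≤ C := fun u hu => ⟨h.ur.le hu, fun b hb => (h.ur.cU u hu b (BR hb)).symm⟩
  let S' : AddSubgroup (Additive (R ⧸ U.subgroupOf R)) :=
    ((C.subgroupOf R).map (QuotientGroup.mk' (U.subgroupOf R))).toAddSubgroup
  have hC : ∀ r : R, π r ∈ S' ↔ (r : A) ∈ C := fun r => ⟨fun ⟨s, hs, e⟩ =>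
    (mul_mem_cancel_left (inv_mem hs)).1 (UC ((πe s r).1 e)), fun e => ⟨r, e, rfl⟩⟩
  refine ⟨S', fun a w hw => ?_, eq_bot_iff.2 fun w hw => ?_, eq_top_iff.2 fun w _ => ?_⟩
  · obtain ⟨r, rfl⟩ := hπ w
    exact sm a r ▸ (hC _).2 ((inferInstance : C.Normal).conj_mem _ ((hC r).1 hw) a)
  · obtain ⟨r, rfl⟩ := hπ w
    exact (π0 r).2 (h.ur.center_le nB BR ((hB r).2 hw.1) ((hC r).1 hw.2).2)
  · obtain ⟨r, rfl⟩ := hπ w
    have h1 := h.eq_of_cent (B := B ⊔ C) (sup_le BR inf_le_left) (UB.trans le_sup_left) (fun c hc =>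
      h.ur.center_le (B := C) inferInstance inf_le_left ⟨hc.1, fun b hb => hc.2 b (mem_sup_left hb)⟩
        fun b hb => hc.2 b (mem_sup_right hb)) r.2
    rw [← SetLike.mem_coe, mul_normal] at h1
    obtain ⟨b, hb, c, hc, e⟩ := h1
    have : π r = π ⟨b, BR hb⟩ + π ⟨c, hc.1⟩ := congrArg π (Subtype.ext e.symm : r = ⟨b, BR hb⟩ * ⟨c, hc.1⟩)
    exact this ▸ AddSubgroup.add_mem_sup ((hB _).1 hb) ((hC _).2 hc)

theorem odd_e (ho : ¬ 2 ∣ Nat.card A) {e : ℕ} (e2 : U.relIndex R = e ^ 2) : ¬ 2 ∣ e := fun hd =>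
  ho ((hd.trans (dvd_pow_self e two_ne_zero)).trans (e2 ▸ (index_dvd_card _).trans (card_subgroup_dvd_card R)))

theorem al_odd [Group.IsSolvable A] (ho : ¬ 2 ∣ Nat.card A) {e : ℕ} (e2 : U.relIndex R = e ^ 2) (he : 2 ≤ e) :
    3 * R.relIndex (lin A V K) ≤ e ^ 4 := by
  obtain ⟨W, _, _, _, -, h0, π, h2, h3⟩ := exists_mod h
  obtain ⟨t, ht⟩ := base_cr (ι := Fin 2) (A := A) (fun _ _ _ _ => base_odd ho) h0
  choose r hr using fun i => h2 (t i)
  have H : ∀ a ∈ lin A V K, (∀ i, (r i : A) ∈ fx h a) → a ∈ R := fun a ha e => mem_R_of h ha fun s hs =>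
    (h3 a ⟨s, hs⟩).1 (ht a (fun i => hr i ▸ (h3 a _).2 (e i)) _)
  by_cases hU : ∀ i, (r i : A) ∈ U
  · rw [relIndex_eq_one.2 fun a ha => H a ha fun i => U_le_fx h a (hU i)]
    exact le_trans (by norm_num) (Nat.pow_le_pow_left he 4)
  push Not at hU
  obtain ⟨i, hi⟩ := hU
  have h4 := count h (ι := Fin 1) (r i).2 hi (r := fun j => r (i.succAbove j)) (fun j => (r _).2)
    fun a ha e1 e2 => H a ha (Fin.succAboveCases i e1 e2)
  have p1 := Nat.minFac_prime (n := e ^ 2) (by nlinarith)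
  have p3 : 3 ≤ (e ^ 2).minFac := lt_of_le_of_ne p1.two_le fun e' =>
    odd_e h ho e2 (Nat.prime_two.dvd_of_dvd_pow ((dvd_of_eq e').trans (Nat.minFac_dvd (e ^ 2))))
  have h5 : 3 * (e ^ 2 / (e ^ 2).minFac) ≤ e ^ 2 := (Nat.mul_le_mul_right _ p3).trans (Nat.mul_div_le _ _)
  rw [Fintype.card_fin, pow_one, e2] at h4
  calc _ ≤ (e ^ 2 - 1) * (3 * (e ^ 2 / (e ^ 2).minFac)) := by nlinarith
    _ ≤ e ^ 2 * e ^ 2 := Nat.mul_le_mul (Nat.sub_le _ _) h5
    _ = _ := by ring

end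

theorem orbit_dvd {A V : Type*} [Group A] [AddCommGroup V] [DistribMulAction A V] (W : AddSubgroup V) :
    Nat.card (orbit A W) ∣ Nat.card A := by
  have := (stabilizer A W).index_dvd_card
  rwa [index_stabilizer] at this

theorem odd_ab {A : Type*} {V : Type u} [Group A] [Finite A] [Group.IsSolvable A] [AddCommGroup V] [Finite V]
    [DistribMulAction A V] (ho : ¬ 2 ∣ Nat.card A) (irr : Irr A V) {p n : ℕ} (hp : p.Prime)
    (hV : Nat.card V = p ^ n) (hn : n ∣ 4) (h3 : n = 4 → ¬ 3 ∣ p - 1) : Sm V (⊤ : Subgroup A) 1 := by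
  suffices H : ∀ (A : Type u) [Group A] [Finite A] [Group.IsSolvable A] [DistribMulAction A V] [FaithfulSMul A V],
      ¬ 2 ∣ Nat.card A → Irr A V → Sm V (⊤ : Subgroup A) 1 from
    (H _ (fun e => ho (e.trans (card_range_dvd _))) (irr_range irr)).range
  intro A _ _ _ _ _ ho irr
  have n4 := Nat.le_of_dvd (by norm_num) hn
  haveI : Nontrivial V := Finite.one_lt_card_iff_nontrivial.1
    (hV ▸ Nat.one_lt_pow (by rintro rfl; simp at hn) hp.one_lt)
  rcases dich' (A := A) (V := V) with ⟨W, h0, h1, hW⟩ | ⟨K, _, _, _, U, R, h⟩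
  · haveI := Fintype.ofFinite (orbit A W)
    have t2 := two_le_orbit irr h0 h1 hW
    obtain ⟨m, -, e, -⟩ := pow_eq_pow hp t2 ((AddSubgroup.one_lt_card_iff_ne_bot W).2 h0)
      (hV ▸ blk_pow irr h0 hW)
    have h4 : Nat.card (orbit A W) ∣ 4 := (Dvd.intro_left _ e.symm).trans hn
    refine (ho (Dvd.dvd.trans ?_ (orbit_dvd W))).elim
    have := Nat.le_of_dvd (by norm_num) h4
    generalize Nat.card (orbit A W) = t at *
    interval_cases t <;> simp at h4 ⊢
  obtain ⟨d, e, e1, e0, ed, e2, e3⟩ := prim1 h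
  obtain ⟨f, -, hf⟩ := (Nat.dvd_prime_pow hp).1 (hV ▸ e1 ▸ dvd_pow_self (Nat.card K) (by omega : d ≠ 0))
  have e4 : n = f * d := Nat.pow_right_injective hp.two_le (by
    change p ^ n = p ^ _
    rw [← hV, e1, hf, pow_mul])
  have f0 : f ≠ 0 := by rintro rfl; simp [e4] at hn
  have e5 := odd_e h ho e2
  obtain rfl : e = 1 := by
    have : d ≤ 4 := Nat.le_of_dvd (by norm_num) ((Dvd.intro_left _ e4.symm).trans hn)
    obtain rfl | rfl : e = 1 ∨ e = 3 := by omega
    · rfl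
    obtain rfl | rfl : d = 3 ∨ d = 4 := by omega
    · exact absurd ((Dvd.intro_left _ e4.symm).trans hn) (by norm_num)
    obtain rfl : f = 1 := by omega
    exact (h3 e4 (by simpa [hf] using e3 3 Nat.prime_three dvd_rfl)).elim
  refine sm_top h (d := 0) fun a _ => lin_le_U h e2 ?_
  refine zpowers_le.2 (pow_lin h hp hf a) (mem_zpowers_pow_iff.2 ?_)
  exact Nat.Coprime.coprime_dvd_left ((Dvd.intro _ e4.symm).trans hn) (Nat.Coprime.pow_left 2
    ((Nat.prime_two.coprime_iff_not_dvd.2 ho).coprime_dvd_right (orderOf_dvd_natCard a)))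

theorem imp_ord {A V : Type*} [Group A] [Finite A] [AddCommGroup V] [DistribMulAction A V] [FaithfulSMul A V]
    {W : AddSubgroup V} [Fintype (orbit A W)] (irr : Irr A V) (h0 : W ≠ ⊥) {b : ℕ}
    (h : ∀ j : orbit A W, tau (stabilizer A j) (j : AddSubgroup V) ≤ b) :
    Nat.card A ≤ (Nat.card (orbit A W)).factorial * b ^ Nat.card (orbit A W) := by
  let K := (toPermHom A (orbit A W)).ker
  let ι : ∀ j : orbit A W, K →* stabilizer A j := fun j => inclusion fun a ha => mem_kerP.1 ha j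
  rw [← K.index_mul_card]
  refine Nat.mul_le_mul (tau_le_fact _ _) ?_
  have h1 : (⨅ j : orbit A W, (toPermHom (stabilizer A j) (j : AddSubgroup V)).ker.comap (ι j)) = ⊥ :=
    eq_bot_iff.2 fun a ha => Subtype.ext (eq_of_smul_eq_smul fun v : V => by
      rw [OneMemClass.coe_one, one_smul]
      exact blk_fix irr h0 (fun j v hv => congrArg Subtype.val (mem_kerP.1 (mem_iInf.1 ha j) ⟨v, hv⟩)) v)
  rw [← index_bot, ← h1]
  refine (index_iInf_le _).trans ?_
  rw [Nat.card_eq_fintype_card, ← Finset.card_univ]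
  refine Finset.prod_le_pow_card _ _ _ fun j _ => le_trans ?_ (h j)
  rw [index_comap]
  exact Nat.le_of_dvd (Nat.pos_of_ne_zero index_ne_zero_of_finite) (relIndex_dvd_index_of_normal _ _)

/-- order bounds in characteristic three -/
def b3 (n : ℕ) : ℕ := if n ≤ 1 then 1 else if n = 2 then 2 else if n ≤ 4 then 39 else if n = 5 then 605 else 3042

theorem ord_three (n : ℕ) (hn : n ≤ 6) (A : Type*) (V : Type u) [Group A] [Finite A] [Group.IsSolvable A]
    [AddCommGroup V] [Finite V] [DistribMulAction A V] (ho : ¬ 2 ∣ Nat.card A) (hV : Nat.card V = 3 ^ n)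
    (irr : Irr A V) : tau A V ≤ b3 n := by
  have red : ∀ n, (∀ (A V : Type u) [Group A] [Finite A] [Group.IsSolvable A] [AddCommGroup V] [Finite V]
      [DistribMulAction A V] [FaithfulSMul A V], ¬ 2 ∣ Nat.card A → Nat.card V = 3 ^ n → Irr A V →
      Nat.card A ≤ b3 n) → ∀ (A : Type _) (V : Type u) [Group A] [Finite A] [Group.IsSolvable A]
      [AddCommGroup V] [Finite V] [DistribMulAction A V], ¬ 2 ∣ Nat.card A → Nat.card V = 3 ^ n → Irr A V →
      tau A V ≤ b3 n := fun n H A V _ _ _ _ _ _ ho hV irr => by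
    rw [tau, ← ker_emb, index_ker]
    exact H _ V (fun e => ho (e.trans (card_range_dvd _))) hV (irr_range irr)
  refine red n ?_ A V ho hV irr
  clear hV red
  induction n using Nat.strong_induction_on with
  | _ n ih =>
  intro A V _ _ _ _ _ _ _ ho hV irr
  rcases subsingleton_or_nontrivial V with hs | hs
  · haveI : Subsingleton A := ⟨fun a b => eq_of_smul_eq_smul fun v : V => Subsingleton.elim _ _⟩
    rw [Nat.card_of_subsingleton (1 : A)]
    unfold b3; split_ifs <;> omega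
  rcases dich' (A := A) (V := V) with ⟨W, h0, h1, hW⟩ | ⟨K, _, _, _, U, R, h⟩
  · haveI := Fintype.ofFinite (orbit A W)
    have t2 := two_le_orbit irr h0 h1 hW
    obtain ⟨m, e1, e, m0⟩ := pow_eq_pow Nat.prime_three t2 ((AddSubgroup.one_lt_card_iff_ne_bot W).2 h0)
      (hV ▸ blk_pow irr h0 hW)
    refine (imp_ord irr h0 (b := b3 m) fun j => ?_).trans ?_
    · rw [tau, ← ker_emb, index_ker]
      exact ih m (by nlinarith) (by nlinarith) _ _ (fun e => ho ((e.trans (card_range_dvd _)).trans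
        (card_subgroup_dvd_card _))) ((blk_card j).trans e1) (irr_range (blk_irr irr hW j))
    generalize Nat.card (orbit A W) = t at *
    subst e
    have : t ≤ 6 := by nlinarith
    have : m ≤ 3 := by nlinarith
    interval_cases m <;> interval_cases t <;> simp [b3, Nat.factorial] at hn ⊢
  obtain ⟨f, d, e, rfl, f0, e0, ed, h1, h2, h3, h4, -⟩ := prim0 h Nat.prime_three hV
  have f6 : f ≤ 6 := by nlinarith
  have e5 := odd_e h ho h1
  obtain rfl : e = 1 := by
    by_contra hne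
    have k1 := h2 _ (Nat.minFac_prime hne) (Nat.minFac_dvd e)
    have f2 : f ≤ 2 := by
      have : 3 ≤ d := by omega
      nlinarith
    refine e5 (((Nat.prime_dvd_prime_iff_eq (Nat.minFac_prime hne) Nat.prime_two).1
      ((Nat.minFac_prime hne).dvd_of_dvd_pow (n := 3) (k1.trans ?_))) ▸ Nat.minFac_dvd e)
    interval_cases f <;> norm_num
  rw [card_A h, kap_one h h1, mul_one]
  have h5 : (Nat.card U).Coprime (2 ^ 4) := Nat.Coprime.pow_right _ (Nat.prime_two.coprime_iff_not_dvd.2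
    fun e => ho (e.trans (card_subgroup_dvd_card U))).symm
  have h6 : Nat.card U ≤ ![0, 1, 1, 13, 5, 121, 91] ⟨f, by omega⟩ := by
    refine Nat.le_of_dvd ?_ (h5.dvd_of_dvd_mul_left (h4.trans ?_))
    all_goals interval_cases f <;> simp
  refine (Nat.mul_le_mul h3 h6).trans ?_
  have : d ≤ 6 := by nlinarith
  interval_cases f <;> interval_cases d <;> simp [b3] at hn ⊢

theorem card_sup_ge {V : Type*} [AddCommGroup V] [Finite V] {M N : AddSubgroup V} (h : M ⊓ N = ⊥) :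
    Nat.card M * Nat.card N ≤ Nat.card ↥(M ⊔ N) := by
  have := card_mul_le (M.addSubgroupOf (M ⊔ N)) (N.addSubgroupOf (M ⊔ N))
  rwa [Nat.card_congr (AddSubgroup.addSubgroupOfEquivOfLe le_sup_left).toEquiv,
    Nat.card_congr (AddSubgroup.addSubgroupOfEquivOfLe le_sup_right).toEquiv, AddSubgroup.addSubgroupOf,
    AddSubgroup.addSubgroupOf, ← AddSubgroup.comap_inf, h, ← AddSubgroup.addSubgroupOf,
    AddSubgroup.bot_addSubgroupOf, AddSubgroup.card_bot, mul_one] at this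

theorem ord_three_cr {A : Type*} {V : Type u} [Group A] [Finite A] [Group.IsSolvable A] [AddCommGroup V]
    [Finite V] [DistribMulAction A V] (ho : ¬ 2 ∣ Nat.card A) (hV : Nat.card V = 3 ^ 6) (hcr : CR A V) :
    tau A V ≤ 3042 := by
  have cd : ∀ M : AddSubgroup V, ∃ n ≤ 6, Nat.card M = 3 ^ n := fun M =>
    (Nat.dvd_prime_pow Nat.prime_three).1 (hV ▸ AddSubgroup.card_addSubgroup_dvd_card M)
  have := cr_ind hcr (fun M => ∀ n ≤ 6, Nat.card M = 3 ^ n → (fixingSubgroup A (M : Set V)).index ≤ b3 n)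
    (fun M hM irr n hn e => by
      letI := invAct A M hM
      refine le_trans (le_of_eq (congrArg Subgroup.index ?_)) (ord_three n hn A M ho e irr)
      ext a
      rw [mem_kerP, mem_fixingSubgroup_iff]
      exact ⟨fun e v => Subtype.ext (e v v.2), fun e v hv => congrArg Subtype.val (e ⟨v, hv⟩)⟩)
    (fun M N _ _ h0 i1 i2 n hn e => by
      obtain ⟨a, ha, ea⟩ := cd M
      obtain ⟨b, hb, eb⟩ := cd N
      have h6 := card_sup_ge h0
      rw [ea, eb, e, ← pow_add, Nat.pow_le_pow_iff_right (by norm_num)] at h6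
      have h7 : fixingSubgroup A (M : Set V) ⊓ fixingSubgroup A (N : Set V) ≤
          fixingSubgroup A ((M ⊔ N : AddSubgroup V) : Set V) := fun g hg =>
        (mem_fixingSubgroup_iff A).2 fun v hv => by
          obtain ⟨u, hu, w, hw, rfl⟩ := AddSubgroup.mem_sup.1 hv
          rw [smul_add, (mem_fixingSubgroup_iff A).1 hg.1 u hu, (mem_fixingSubgroup_iff A).1 hg.2 w hw]
      refine (Nat.le_of_dvd (Nat.pos_of_ne_zero index_ne_zero_of_finite) (index_dvd_of_le h7)).trans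
        (index_inf_le.trans ((Nat.mul_le_mul (i1 a ha ea) (i2 b hb eb)).trans ?_))
      interval_cases n <;> interval_cases a <;> interval_cases b <;> simp [b3] at h6 ⊢)
    6 le_rfl (by rw [AddSubgroup.card_top, hV])
  refine le_trans (le_of_eq (congrArg Subgroup.index ?_)) this
  ext a
  rw [mem_kerP, mem_fixingSubgroup_iff]
  simp

theorem exp_big' {b c c' k j e₀ : ℕ} (h0 : 0 < e₀) (hj : j ≤ e₀) (h1 : (e₀ + 1) ^ k ≤ b * e₀ ^ k)
    (h2 : c * e₀ ^ k ≤ c' * b ^ (e₀ - j)) {e : ℕ} (he : e₀ ≤ e) : c * e ^ k ≤ c' * b ^ (e - j) := by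
  induction e, he using Nat.le_induction with
  | base => exact h2
  | succ e he ih =>
    have h3 := Nat.pow_le_pow_left (show e₀ * (e + 1) ≤ (e₀ + 1) * e by nlinarith) k
    rw [mul_pow, mul_pow] at h3
    have h4 : (e + 1) ^ k ≤ b * e ^ k := Nat.le_of_mul_le_mul_left
      (h3.trans ((Nat.mul_le_mul_right _ h1).trans_eq (by ring))) (Nat.pow_pos h0 (n := k))
    rw [Nat.succ_sub (hj.trans he), pow_succ]
    nlinarith [Nat.mul_le_mul_left c h4, Nat.mul_le_mul_left b ih]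

theorem exists_free {A V K : Type*} [Group A] [AddCommGroup V] [DistribMulAction A V] [Field K] [Module K V]
    [Finite V] [Finite A] (L : Subgroup A) {k : ℕ} (hk : k ≤ 3)
    (h : ∀ a ∈ L, a ≠ 1 → Nat.card (eig a (1 : K) : AddSubgroup V) ^ 3 ≤ Nat.card V ^ k)
    (h1 : Nat.card L ^ 3 < Nat.card V ^ (3 - k)) : ∃ v : V, ∀ a ∈ L, a • v = v → a = 1 := by
  have h4 := good_count (K := K) (V := V) L (M := Nat.nthRoot 3 (Nat.card V ^ k)) fun a ha h1 =>
    (Nat.le_nthRoot_iff (by norm_num)).2 (h a ha h1)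
  have h5 : Nat.nthRoot 3 (Nat.card V ^ k) ^ 3 ≤ Nat.card V ^ k := Nat.pow_nthRoot_le_iff.2 (Or.inl (by norm_num))
  generalize Nat.nthRoot 3 (Nat.card V ^ k) = M at *
  have h9 : Nat.card L * M < Nat.card V := (Nat.pow_lt_pow_iff_left (n := 3) (by norm_num)).1 (by
    rw [mul_pow]
    refine (Nat.mul_lt_mul_of_lt_of_le h1 h5 (Nat.pow_pos Nat.card_pos)).trans_eq ?_
    rw [← pow_add, Nat.sub_add_cancel hk])
  exact (Set.ncard_pos (s := {v : V | ∀ a ∈ L, a • v = v → a = 1}) (Set.toFinite _)).1 (by omega)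

theorem cube_dvd' : ∀ e : ℕ, e < 33 → ∀ p : ℕ, p < 33 → 2 ≤ p ∧ e % 2 = 1 ∧ e ≠ 27 ∧ Nat.minFac p = p ∧
    e ^ 2 % p ^ 3 = 0 → e = p ^ 2 ∧ (p - 1) % 3 ≠ 0 := by decide +kernel

theorem cube_dvd (e : ℕ) (he : e < 33) (p : ℕ) (hp : p < 33) (h1 : 2 ≤ p) (h2 : ¬ 2 ∣ e) (h3 : e ≠ 27)
    (h4 : p.minFac = p) (h5 : p ^ 3 ∣ e ^ 2) : e = p ^ 2 ∧ ¬ 3 ∣ p - 1 :=
  (cube_dvd' e he p hp ⟨h1, by omega, h3, h4, Nat.mod_eq_zero_of_dvd h5⟩).imp_right fun h => by omega

theorem odd_prim {A : Type u} {V K : Type*} [Group A] [AddCommGroup V] [DistribMulAction A V] [Field K]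
    [Module K V] {U R : Subgroup A} (h : Pr V K U R) [Nontrivial V] [FaithfulSMul A V] [Finite A] [Finite V]
    [Finite K] [Group.IsSolvable A] (ho : ¬ 2 ∣ Nat.card A) (hV : ¬ 2 ∣ Nat.card V) :
    ∃ v : V, Sm V (stabilizer A v) 1 := by
  obtain ⟨d, e, e1, e0, ed, e2, e3⟩ := prim1 h
  by_cases he : e = 1
  · obtain ⟨v, hv⟩ := exists_ne (0 : V)
    exact ⟨v, sm_stab h ((dS_lin h).trans (lin_le_U h (by rw [e2, he]; rfl))) hv⟩
  have e5 := odd_e h ho e2
  have q2 : 2 ∣ Nat.card K - 1 := by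
    have : ¬ 2 ∣ Nat.card K := fun e => hV (e1 ▸ e.trans (dvd_pow_self _ (by omega)))
    omega
  have q1 : 1 < Nat.card K := Finite.one_lt_card
  have dbl : ∀ m, ¬ 2 ∣ m → m ∣ Nat.card K - 1 → 2 * m ≤ Nat.card K - 1 := fun m h1 h2 => Nat.le_of_dvd (by omega)
    ((Nat.prime_two.coprime_iff_not_dvd.2 h1).mul_dvd_of_dvd_of_dvd q2 h2)
  have q7 : 7 ≤ Nat.card K := by
    have k1 : ¬ 2 ∣ e.minFac := fun h => e5 (h.trans (Nat.minFac_dvd e))
    have := dbl _ k1 (e3 _ (Nat.minFac_prime he) (Nat.minFac_dvd e))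
    have := (Nat.minFac_prime he).two_le
    omega
  have hU := dbl _ (fun e => ho (e.trans (card_subgroup_dvd_card U))) (card_U_dvd h)
  have pw : ∀ j, 3 ≤ j → (Nat.card K - 1) ^ 3 * 7 ^ (j - 3) < Nat.card K ^ j := fun j hj =>
    (Nat.mul_lt_mul_of_lt_of_le (Nat.pow_lt_pow_left (show Nat.card K - 1 < Nat.card K by omega) (by norm_num))
      (Nat.pow_le_pow_left q7 _) (by positivity)).trans_eq (by rw [← pow_add, Nat.add_sub_cancel' hj])
  have cR : Nat.card R = e ^ 2 * Nat.card U := by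
    rw [← (U.subgroupOf R).index_mul_card, Nat.card_congr (subgroupOfEquivOfLe h.ur.le).toEquiv, ← e2]; rfl
  have cL : Nat.card (lin A V K) = R.relIndex (lin A V K) * Nat.card R := by
    rw [← (R.subgroupOf (lin A V K)).index_mul_card, Nat.card_congr (subgroupOfEquivOfLe (R_le_lin h)).toEquiv]; rfl
  have big : (Nat.card (lin A V K) ^ 3 < Nat.card K ^ e) → ∃ v : V, Sm V (stabilizer A v) 1 := fun H => by
    obtain ⟨v, hv⟩ := exists_free (lin A V K) (k := 2) (by norm_num) (fun a => fix_three h ho)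
      (H.trans_le (by rw [e1, pow_one]; exact Nat.pow_le_pow_right (by omega) ed))
    exact ⟨v, sm_free h (dS_lin h) hv⟩
  by_cases h33 : 33 ≤ e
  · refine big (lt_of_le_of_lt ?_ (pw e (by omega)))
    have h1 := al_odd h ho e2 (by omega)
    have h2 := exp_big' (b := 7) (c := 1) (c' := 216) (k := 18) (j := 3) (by norm_num) (by norm_num)
      (by norm_num) (by norm_num) h33
    have h3 : 6 * Nat.card (lin A V K) ≤ (Nat.card K - 1) * e ^ 6 := by
      rw [cL, cR]
      calc _ = 2 * Nat.card U * (3 * R.relIndex (lin A V K) * e ^ 2) := by ring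
        _ ≤ (Nat.card K - 1) * (e ^ 4 * e ^ 2) := Nat.mul_le_mul hU (Nat.mul_le_mul_right _ h1)
        _ = _ := by ring
    refine Nat.le_of_mul_le_mul_left ?_ (show 0 < 216 by norm_num)
    calc _ = (6 * Nat.card (lin A V K)) ^ 3 := by ring
      _ ≤ ((Nat.card K - 1) * e ^ 6) ^ 3 := Nat.pow_le_pow_left h3 3
      _ = (Nat.card K - 1) ^ 3 * (1 * e ^ 18) := by ring
      _ ≤ (Nat.card K - 1) ^ 3 * (216 * 7 ^ (e - 3)) := Nat.mul_le_mul_left _ h2
      _ = _ := by ring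
  obtain ⟨W, _, _, _, w1, w2, w4, π, w5, w3⟩ := exists_mod' h
  by_cases h27 : e = 27
  · subst h27
    refine big (lt_of_le_of_lt ?_ (pw 27 (by omega)))
    have h1 := (Nat.le_of_dvd (Nat.pos_of_ne_zero index_ne_zero_of_finite) (al_dvd h w5 w3)).trans
      (ord_three_cr ho (w1.trans e2) w2)
    have h3 : Nat.card (lin A V K) ≤ (Nat.card K - 1) * 1108809 := by
      rw [cL, cR]
      nlinarith [Nat.mul_le_mul h1 hU]
    refine (Nat.pow_le_pow_left h3 3).trans ?_
    rw [mul_pow]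
    exact Nat.mul_le_mul_left _ (by norm_num)
  have h1 : dS ⊤ 1 ≤ R := dS_R h w3 le_rfl (sm_cr w2 fun M hM irr => by
    letI := invAct A M hM
    rcases subsingleton_or_nontrivial M with hs | hs
    · exact fun _ _ _ => Subsingleton.elim _ _
    obtain ⟨p, hp, hd⟩ := Nat.exists_prime_and_dvd (Finite.one_lt_card (α := M)).ne'
    haveI := Fact.mk hp
    obtain ⟨n, hn⟩ := (IsPGroup.iff_card (p := p) (G := Multiplicative M)).1 fun v => ⟨1, by
      rw [pow_one]; exact irr.nsmul hp hd v.toAdd⟩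
    change Nat.card M = _ at hn
    have n0 : n ≠ 0 := by rintro rfl; exact (Finite.one_lt_card (α := M)).ne' hn
    by_cases n2 : n ≤ 2
    · exact odd_ab ho irr hp hn (by interval_cases n <;> simp at n0 ⊢) (by omega)
    have k1 : p ^ n ∣ e ^ 2 := hn ▸ e2 ▸ w1 ▸ AddSubgroup.card_addSubgroup_dvd_card M
    have k2 : p ^ 3 ∣ e ^ 2 := (pow_dvd_pow p (by omega)).trans k1
    have k3 : p ≤ 32 := (Nat.le_of_dvd e0 (hp.dvd_of_dvd_pow ((dvd_pow_self p (by norm_num)).trans k2))).trans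
      (by omega)
    have k4 : e = p ^ 2 ∧ ¬ 3 ∣ p - 1 :=
      cube_dvd e (by omega) p (by omega) hp.two_le e5 h27 hp.minFac_eq k2
    rw [k4.1, ← pow_mul, Nat.pow_dvd_pow_iff_le_right hp.one_lt] at k1
    obtain rfl | rfl : n = 3 ∨ n = 4 := by omega
    swap
    · exact odd_ab ho irr hp hn dvd_rfl fun _ => k4.2
    exfalso
    obtain ⟨N, hN, c1, c2⟩ := w2 M hM
    have c3 := card_sup_ge c1
    have c4 : Nat.card W = p ^ 4 := by rw [w1, e2, k4.1, ← pow_mul]
    have c5 : N ≠ ⊥ := by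
      rintro rfl
      rw [sup_bot_eq] at c2
      rw [c2, AddSubgroup.card_top, c4] at hn
      exact absurd (Nat.pow_right_injective hp.two_le hn) (by norm_num)
    obtain ⟨k, -, hk⟩ := (Nat.dvd_prime_pow hp).1 (c4 ▸ AddSubgroup.card_addSubgroup_dvd_card N)
    rw [c2, AddSubgroup.card_top, c4, hn, hk, ← pow_add, Nat.pow_le_pow_iff_right hp.one_lt] at c3
    have k0 : k ≠ 0 := by
      rintro rfl
      exact c5 (AddSubgroup.eq_bot_of_card_eq _ hk)
    have c6 : Nat.card N = p := by rw [hk, show k = 1 by omega, pow_one]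
    obtain ⟨g, hg⟩ := (isAddCyclic_of_prime_card c6).exists_generator
    rw [w4 N hN ⟨g, fun s hs => (hg ⟨s, hs⟩).imp fun k hk => (congrArg Subtype.val hk).symm⟩,
      AddSubgroup.card_bot] at c6
    exact hp.one_lt.ne c6)
  obtain ⟨v, hv⟩ := exists_free (K := K) (V := V) R (k := 1) (by norm_num) (fun a ha h1 => by
    by_cases hU : a ∈ U
    · rw [fix_U h hU h1]; exact Nat.one_le_pow _ _ Nat.card_pos
    · simpa using fix_cube h ho ha hU) (by
    have h2 := exp_big' (b := 49) (c := 1) (c' := 56) (k := 6) (j := 2) (e₀ := 3) (by norm_num) (by norm_num)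
      (by norm_num) (by norm_num) (show 3 ≤ e by omega)
    refine lt_of_lt_of_le (lt_of_le_of_lt ?_ (pw (2 * e) (by omega))) (by
      rw [e1, ← pow_mul]; exact Nat.pow_le_pow_right (by omega) (by omega))
    rw [cR, show 2 * e - 3 = 2 * (e - 2) + 1 by omega, pow_succ 7, pow_mul]
    refine Nat.le_of_mul_le_mul_left ?_ (show 0 < 8 by norm_num)
    calc _ = (2 * Nat.card U) ^ 3 * (1 * e ^ 6) := by ring
      _ ≤ (Nat.card K - 1) ^ 3 * (56 * 49 ^ (e - 2)) := Nat.mul_le_mul (Nat.pow_le_pow_left hU 3) h2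
      _ = _ := by norm_num; ring)
  exact ⟨v, sm_free h h1 hv⟩

theorem two_of_one {A V : Type*} [Group A] [Finite A] [AddCommGroup V] [Finite V] [Nontrivial V]
    [DistribMulAction A V] (ho : ¬ 2 ∣ Nat.card A) (hV : ¬ 2 ∣ Nat.card V) {d : ℕ}
    (h : ∃ v : V, Sm V (stabilizer A v) d) : PP A V V (Fin 2) d := by
  obtain ⟨v, v0, hv⟩ : ∃ v : V, v ≠ 0 ∧ Sm V (stabilizer A v) d := by
    obtain ⟨v, hv⟩ := h
    by_cases v0 : v = 0
    · obtain ⟨w, hw⟩ := exists_ne (0 : V)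
      exact ⟨w, hw, hv.mono (fun a _ => by simp [v0]) le_rfl⟩
    · exact ⟨v, v0, hv⟩
  have k : ∀ a : A, a • v ≠ -v := fun a e => by
    have e4 := fix_of_pow (k := 2) (e := v) ((Nat.prime_two.coprime_iff_not_dvd.2 ho).coprime_dvd_right
      (orderOf_dvd_natCard a)) (by rw [sq, mul_smul, e, smul_neg, e, neg_neg])
    exact v0 ((nsmul_eq_zero_iff_of_coprime (Nat.prime_two.coprime_iff_not_dvd.2 hV)).1
      ⟨(two_nsmul v).trans (eq_neg_iff_add_eq_zero.1 (e4.symm.trans e)), card_nsmul_eq_zero'⟩)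
  refine ⟨![v, -v], fun c => hv.mono (fun a ha => ?_) le_rfl, fun c c' a => ?_⟩
  · fin_cases c <;> simpa using ha
  · fin_cases c <;> fin_cases c' <;> simp [k, neg_eq_iff_eq_neg]

theorem odd_irr {A : Type*} {V : Type u} [Group A] [Finite A] [Group.IsSolvable A] [AddCommGroup V] [Finite V]
    [DistribMulAction A V] (ho : ¬ 2 ∣ Nat.card A) (hV : ¬ 2 ∣ Nat.card V) (irr : Irr A V) :
    ∃ v : V, Sm V (stabilizer A v) 1 := by
  have red : ∀ n, (∀ (A V : Type u) [Group A] [Finite A] [Group.IsSolvable A] [AddCommGroup V] [Finite V]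
      [DistribMulAction A V] [FaithfulSMul A V], ¬ 2 ∣ Nat.card A → ¬ 2 ∣ Nat.card V → Nat.card V = n →
      Irr A V → ∃ v : V, Sm V (stabilizer A v) 1) → ∀ (A : Type _) (V : Type u) [Group A] [Finite A]
      [Group.IsSolvable A] [AddCommGroup V] [Finite V] [DistribMulAction A V], ¬ 2 ∣ Nat.card A →
      ¬ 2 ∣ Nat.card V → Nat.card V = n → Irr A V → ∃ v : V, Sm V (stabilizer A v) 1 :=
    fun n H A V _ _ _ _ _ _ ho hV e irr =>
      (H _ V (fun e => ho (e.trans (card_range_dvd _))) hV e (irr_range irr)).imp fun v hv =>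
        hv.of_hom (emb A V).rangeRestrict (fun _ _ => rfl) fun _ ha => ha
  refine red _ ?_ A V ho hV rfl irr
  generalize Nat.card V = n
  clear hV red
  induction n using Nat.strong_induction_on with
  | _ n ih =>
  intro A V _ _ _ _ _ _ _ ho hV hn irr
  rcases subsingleton_or_nontrivial V with hs | hs
  · exact ⟨0, fun _ _ _ => Subsingleton.elim _ _⟩
  rcases dich' (A := A) (V := V) with ⟨W, h0, h1, hW⟩ | ⟨K, _, _, _, U, R, h⟩
  swap
  · exact odd_prim h ho hV
  haveI := Fintype.ofFinite (orbit A W)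
  have e := blk_pow irr h0 hW
  have t2 := two_le_orbit irr h0 h1 hW
  have w2 : 2 ≤ Nat.card W := (AddSubgroup.one_lt_card_iff_ne_bot W).2 h0
  have lt2 : Nat.card W < n := hn ▸ e ▸ by nlinarith [Nat.pow_le_pow_right (zero_lt_two.trans_le w2) t2]
  obtain ⟨g, g1, -⟩ := imp_step irr h0 hW (col_odd ho) fun j => by
    haveI : Nontrivial (j : AddSubgroup V) := Finite.one_lt_card_iff_nontrivial.1 (by rw [blk_card]; exact w2)
    have o1 : ¬ 2 ∣ Nat.card (stabilizer A j) := fun e => ho (e.trans (card_subgroup_dvd_card _))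
    have o2 : ¬ 2 ∣ Nat.card (j : AddSubgroup V) := fun e =>
      hV (e.trans (AddSubgroup.card_addSubgroup_dvd_card _))
    exact two_of_one o1 o2 ((ih _ lt2 _ (j : AddSubgroup V) (fun e => o1 (e.trans (card_range_dvd _))) o2
      (blk_card j) (irr_range (blk_irr irr hW j))).imp fun v hv =>
        hv.of_hom (emb _ _).rangeRestrict (fun _ _ => rfl) fun _ ha => ha)
  exact ⟨g (), g1 ()⟩

end Cfsg.Lib.DL9
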