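import Cfsg.Agent.Lib.DL9.Imp

/-!
Derived length of stabilisers: primitive modules.
-/

set_option autoImplicit false
set_option linter.style.haveILetI false
set_option linter.unusedSectionVars false

namespace Cfsg.Lib.DL9

open Subgroup MulAction Cfsg.Lib.SL Cfsg.Lib.KP
open scoped commutatorElement

theorem ringHom_pow {K : Type*} [Field K] [Finite K] {p f : ℕ} (hp : p.Prime) (h : Nat.card K = p ^ f)
    (σ : K →+* K) : ∃ i, ∀ c, σ c = c ^ p ^ i := by
  haveI := Fact.mk hp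
  haveI := Fintype.ofFinite K
  haveI : CharP K p := charP_of_card_eq_prime_pow (by rw [← Nat.card_eq_fintype_card, h])
  letI : Algebra (ZMod p) K := ZMod.algebra _ _
  let τ : K →ₐ[ZMod p] K := ⟨σ, fun c => DFunLike.congr_fun (Subsingleton.elim (σ.comp (algebraMap (ZMod p) K))
      (algebraMap (ZMod p) K)) c⟩
  obtain ⟨i, hi⟩ := FiniteField.exists_forall_apply_eq_pow (ZMod p) p K
    (AlgEquiv.ofBijective τ (Finite.injective_iff_bijective.1 σ.injective))
  exact ⟨i, fun c => (hi c).trans (by rw [Nat.card_zmod])⟩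

theorem exists_pf (K : Type*) [Field K] [Finite K] : ∃ p f : ℕ, p.Prime ∧ 0 < f ∧ Nat.card K = p ^ f := by
  haveI := Fintype.ofFinite K
  obtain ⟨p, -, n, h1, h2⟩ := FiniteField.card' K
  exact ⟨p, n, h1, n.2, by rw [Nat.card_eq_fintype_card, h2]⟩

theorem card_mul_le {V : Type*} [AddCommGroup V] [Finite V] (M N : AddSubgroup V) :
    Nat.card M * Nat.card N ≤ Nat.card V * Nat.card ↥(M ⊓ N) := by
  have h1 := AddSubgroup.index_inf_le (H := M) (K := N)
  have h2 := M.card_mul_index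
  have h3 := N.card_mul_index
  have h4 := (M ⊓ N).card_mul_index
  have h5 : 0 < (M ⊓ N).index := Nat.pos_of_ne_zero AddSubgroup.index_ne_zero_of_finite
  refine Nat.le_of_mul_le_mul_right ?_ h5
  calc _ ≤ Nat.card M * Nat.card N * (M.index * N.index) := Nat.mul_le_mul_left _ h1
    _ = (Nat.card M * M.index) * (Nat.card N * N.index) := by ring
    _ = _ := by rw [h2, h3, mul_assoc, h4]

theorem cover_le {ι V : Type*} [Finite ι] (F : ι → Set V) {M : ℕ} (h : ∀ i, (F i).ncard ≤ M) :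
    (⋃ i, F i).ncard ≤ Nat.card ι * M := by
  haveI := Fintype.ofFinite ι
  refine (Set.ncard_iUnion_le_of_fintype F).trans ((Finset.sum_le_card_nsmul _ _ M fun i _ => h i).trans ?_)
  simp

variable {A V K : Type*} [Group A] [AddCommGroup V] [DistribMulAction A V] [Field K] [Module K V]

/-- eigenspaces -/
def eig (a : A) (c : K) : AddSubgroup V where
  carrier := {v | a • v = c • v}
  zero_mem' := by simp
  add_mem' {x y} hx hy := by
    change a • (x + y) = c • (x + y)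
    rw [smul_add, smul_add, hx, hy]
  neg_mem' {x} hx := by
    change a • (-x) = c • (-x)
    rw [smul_neg, smul_neg, hx]

theorem mem_eig {a : A} {c : K} {v : V} : v ∈ (eig a c : AddSubgroup V) ↔ a • v = c • v := Iff.rfl

theorem good_count [Finite V] [Finite A] (L : Subgroup A) {M : ℕ}
    (h : ∀ a ∈ L, a ≠ 1 → Nat.card (eig a (1 : K) : AddSubgroup V) ≤ M) :
    Nat.card V ≤ {v : V | ∀ a ∈ L, a • v = v → a = 1}.ncard + Nat.card L * M := by
  classical
  have := cover_le (fun a : L => if (a : A) = 1 then (∅ : Set V) else (eig (a : A) (1 : K) : AddSubgroup V))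
    (M := M) fun a => by
      split_ifs with e
      · simp
      · exact h a a.2 e
  refine le_trans ?_ ((Set.ncard_union_le _ _).trans (Nat.add_le_add_left this _))
  rw [← Set.ncard_univ]
  refine Set.ncard_le_ncard (fun v _ => or_iff_not_imp_left.2 fun e => ?_) (Set.toFinite _)
  simp only [Set.mem_ofPred_eq, not_forall] at e
  obtain ⟨a, ha, e1, e2⟩ := e
  exact Set.mem_iUnion.2 ⟨⟨a, ha⟩, by rw [if_neg e2]; exact mem_eig.2 (by rwa [one_smul])⟩

variable {U R : Subgroup A} (h : Pr V K U R) [Nontrivial V] [FaithfulSMul A V] [Finite A] [Finite V] [Finite K]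

include h

theorem semi_pow {p f : ℕ} (hp : p.Prime) (hK : Nat.card K = p ^ f) (a : A) :
    ∃ i, ∀ (c : K) (v : V), a • c • v = c ^ p ^ i • a • v := by
  obtain ⟨σ, hσ⟩ := h.semi a
  obtain ⟨i, hi⟩ := ringHom_pow hp hK σ
  exact ⟨i, fun c v => by rw [hσ, hi]⟩

theorem dS_lin : dS ⊤ 1 ≤ lin A V K := by
  obtain ⟨p, f, hp, -, hK⟩ := exists_pf K
  refine commutator_le.2 fun a _ b _ c v => ?_
  obtain ⟨i, hi⟩ := semi_pow h hp hK a
  obtain ⟨j, hj⟩ := semi_pow h hp hK b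
  obtain ⟨w, rfl⟩ := MulAction.surjective (b * a) v
  obtain ⟨c, rfl⟩ : ∃ c' : K, (c' ^ p ^ i) ^ p ^ j = c := by
    obtain ⟨σ, hσ⟩ := h.semi (b * a)
    obtain ⟨c', rfl⟩ := Finite.injective_iff_surjective.1 σ.injective c
    obtain ⟨x, hx⟩ := exists_ne (0 : V)
    refine ⟨c', smul_left_injective K (mt (smul_eq_zero_iff_eq (b * a)).1 hx) ?_⟩
    change _ • (b * a) • x = _ • (b * a) • x
    rw [← hσ, mul_smul, mul_smul, hi, hj]
  have e : ⁅a, b⁆ * (b * a) = a * b := by rw [commutatorElement_def]; group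
  simp only
  rw [← mul_smul ⁅a, b⁆, e, mul_smul b, ← hj, ← hi, ← mul_smul b, ← mul_smul, e, mul_smul, mul_smul, hj, hi,
    ← pow_mul, ← pow_mul, mul_comm]

theorem pow_lin {p f : ℕ} (hp : p.Prime) (hK : Nat.card K = p ^ f) (a : A) : a ^ f ∈ lin A V K := by
  haveI := Fintype.ofFinite K
  obtain ⟨i, hi⟩ := semi_pow h hp hK a
  have : ∀ n, ∀ (c : K) (v : V), a ^ n • c • v = c ^ (p ^ n) ^ i • a ^ n • v := fun n => by
    induction n with
    | zero => simp
    | succ n ih => intro c v; rw [pow_succ', mul_smul, ih, hi, ← pow_mul, ← mul_pow, ← pow_succ, mul_smul]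
  intro c v
  rw [this, ← hK, Nat.card_eq_fintype_card, FiniteField.pow_card_pow]

theorem U_free {u : A} (hu : u ∈ U) {v : V} (hv : v ≠ 0) (e : u • v = v) : u = 1 := by
  obtain ⟨c, hc⟩ := h.sc u hu
  obtain rfl : c = 1 := smul_left_injective K hv (by simpa [hc] using e)
  exact eq_of_smul_eq_smul fun x : V => by rw [hc, one_smul, one_smul]

theorem dS_R {W : Type*} [MulAction A W] {π : R → W}
    (e : ∀ (a : A) (r : R), a • π r = π r ↔ r.1⁻¹ * (a * r * a⁻¹) ∈ U) {d : ℕ} (hd : 1 ≤ d)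
    (hs : Sm W (⊤ : Subgroup A) d) : dS ⊤ d ≤ R := fun a ha =>
  mem_R_of h (dS_lin h (dS_anti _ hd ha)) fun r hr => (e a ⟨r, hr⟩).1 (hs a ha _)

theorem dS_U {d : ℕ} (h1 : dS ⊤ d ≤ R) : dS ⊤ (d + 1) ≤ U :=
  commutator_le.2 fun _ ha _ hb => h.ur.comm _ (h1 ha) _ (h1 hb)

theorem sm_top {d : ℕ} (h1 : dS ⊤ d ≤ U) : Sm V (⊤ : Subgroup A) (d + 1) := fun a ha v => by
  have : dS ⊤ (d + 1) ≤ (⊥ : Subgroup A) := commutator_le.2 fun _ ha _ hb =>
    commutatorElement_eq_one_iff_mul_comm.2 (h.ur.cU _ (h1 ha) _ (h.ur.le (h1 hb)))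
  rw [mem_bot.1 (this ha), one_smul]

theorem sm_stab {d : ℕ} (h1 : dS ⊤ d ≤ U) {v : V} (hv : v ≠ 0) : Sm V (stabilizer A v) d := fun a ha x => by
  rw [U_free h (h1 (dS_mono le_top _ ha)) hv (dS_le _ _ ha), one_smul]

theorem sm_free {L : Subgroup A} {d : ℕ} (h1 : dS ⊤ d ≤ L) {v : V} (hv : ∀ a ∈ L, a • v = v → a = 1) :
    Sm V (stabilizer A v) d := fun a ha x => by
  rw [hv a (h1 (dS_mono le_top _ ha)) (dS_le _ _ ha), one_smul]

theorem exists_bt {r : A} (hr : r ∈ R) (hU : r ∉ U) : ∃ s ∈ R, bt h r s ≠ 1 := by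
  by_contra! hc
  exact hU (h.ur.cR r fun s hs => ((bt_eq_one h hr hs).1 (hc s hs)).symm)

theorem eig_shift {r s : A} (hr : r ∈ R) (hs : s ∈ R) {c : K} {v : V} (e : r • v = c • v) :
    r • s • v = ((bt h r s : K) * c) • s • v := by
  rw [smul_smul_bt h hr hs, e, R_le_lin h hs, mul_smul]

theorem eig_sq {r : A} (hr : r ∈ R) (hU : r ∉ U) {c : K} (c0 : c ≠ 0) :
    Nat.card (eig r c : AddSubgroup V) ^ 2 ≤ Nat.card V := by
  obtain ⟨s, hs, hb⟩ := exists_bt h hr hU
  rw [sq, ← Nat.card_prod]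
  let φ : (↥(eig r c : AddSubgroup V) × ↥(eig r c : AddSubgroup V)) →+ V := AddMonoidHom.mk'
    (fun x => x.1 + s • x.2) fun x y => by simp [add_add_add_comm]
  refine Nat.card_le_card_of_injective φ ((injective_iff_map_eq_zero φ).2 fun x e => ?_)
  change (x.1 : V) + s • (x.2 : V) = 0 at e
  have e1 := congrArg (r • ·) e
  simp only [smul_add, smul_zero] at e1
  rw [mem_eig.1 x.1.2, eig_shift h hr hs (mem_eig.1 x.2.2), eq_neg_of_add_eq_zero_left e, smul_neg,
    neg_add_eq_sub, ← sub_smul, smul_eq_zero, sub_eq_zero, mul_left_eq_self₀] at e1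
  have e2 : s • (x.2 : V) = 0 := e1.resolve_left fun e => e.elim (fun e => hb (Units.ext e)) c0
  rw [e2, add_zero] at e
  exact Prod.ext (Subtype.ext e) (Subtype.ext ((smul_eq_zero_iff_eq s).1 e2))

theorem fix_cube (ho : ¬ 2 ∣ Nat.card A) {r : A} (hr : r ∈ R) (hU : r ∉ U) :
    Nat.card (eig r (1 : K) : AddSubgroup V) ^ 3 ≤ Nat.card V := by
  obtain ⟨s, hs, hb⟩ := exists_bt h hr hU
  have b2 : bt h r s ^ 2 ≠ 1 := fun e => hb (by
    have h1 := bt_pow_left h hr hs (Nat.card A)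
    rw [pow_card_eq_one', (bt_eq_one h (one_mem _) hs).2 (by simp)] at h1
    obtain ⟨k, hk⟩ := Nat.odd_iff.2 (Nat.two_dvd_ne_zero.1 ho)
    rwa [hk, pow_succ, pow_mul, e, one_pow, one_mul, eq_comm] at h1)
  rw [pow_succ, sq, ← Nat.card_prod, ← Nat.card_prod]
  let φ : ((↥(eig r (1 : K) : AddSubgroup V) × ↥(eig r (1 : K) : AddSubgroup V)) ×
      ↥(eig r (1 : K) : AddSubgroup V)) →+ V := AddMonoidHom.mk'
    (fun x => x.1.1 + s • x.1.2 + s • s • x.2) fun x y => by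
      simp only [Prod.fst_add, Prod.snd_add, AddSubgroup.coe_add, smul_add]
      abel
  refine Nat.card_le_card_of_injective φ ((injective_iff_map_eq_zero φ).2 fun x e => ?_)
  change (x.1.1 : V) + s • (x.1.2 : V) + s • s • (x.2 : V) = 0 at e
  have e0 := mem_eig.1 x.1.1.2
  have e1 := eig_shift h hr hs (mem_eig.1 x.1.2.2)
  have e2 := eig_shift h hr hs (eig_shift h hr hs (mem_eig.1 x.2.2))
  have l := R_le_lin h hr
  have k1 : (bt h r s : K) - 1 ≠ 0 := sub_ne_zero.2 fun e => hb (Units.ext e)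
  have k2 : (bt h r s : K) ^ 2 - 1 ≠ 0 := sub_ne_zero.2 fun e => b2 (Units.ext e)
  have k0 : (bt h r s : K) ≠ 0 := Units.ne_zero _
  generalize (bt h r s : K) = b at *
  have f1 := congrArg (r • ·) e
  simp only [smul_add, smul_zero, e0, e1, e2] at f1
  have f2 := congrArg (r • ·) f1
  simp only [smul_add, smul_zero, l _, e0, e1, e2] at f2
  have e1' := (smul_eq_zero_iff_eq (β := V) s (x := x.1.2)).1
  have e2' := fun e => (smul_eq_zero_iff_eq (β := V) s (x := x.2)).1 ((smul_eq_zero_iff_eq s).1 e)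
  generalize s • s • (x.2 : V) = z at *
  generalize s • (x.1.2 : V) = y at *
  have g2 : (b * (b - 1) * (b ^ 2 - 1)) • z = 0 := by
    linear_combination (norm := module) f2 - (b + 1) • f1 + b • e
  have g3 : z = 0 := (smul_eq_zero.1 g2).resolve_left (by simp [k0, k1, k2])
  have g4 : (b - 1) • y = 0 := by
    rw [g3] at e f1
    linear_combination (norm := module) f1 - e
  have g5 : y = 0 := (smul_eq_zero.1 g4).resolve_left k1
  rw [g3, g5, add_zero, add_zero] at e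
  exact Prod.ext (Prod.ext (Subtype.ext e) (Subtype.ext (e1' g5))) (Subtype.ext (e2' g3))

theorem fix_lin {a : A} (ha : a ∈ lin A V K) (hR : a ∉ R) : ∃ r ∈ R, r ∉ U ∧
    Nat.card (eig a (1 : K) : AddSubgroup V) ^ 2 ≤ Nat.card V * Nat.card (eig r (1 : K) : AddSubgroup V) := by
  obtain ⟨r, hr, hU⟩ : ∃ r ∈ R, r⁻¹ * (a * r * a⁻¹) ∉ U := by
    by_contra! hc
    exact hR (mem_R_of h ha hc)
  refine ⟨_, mul_mem (inv_mem hr) (h.ur.nR.conj_mem r hr a), hU, ?_⟩
  have h1 := card_mul_le (eig a (1 : K) : AddSubgroup V) (eig (r⁻¹ * a * r) (1 : K))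
  have h2 : Nat.card (eig a (1 : K) : AddSubgroup V) = Nat.card (eig (r⁻¹ * a * r) (1 : K) : AddSubgroup V) :=
    Nat.card_congr (Equiv.subtypeEquiv (toPerm r⁻¹) fun v => by
      simp [mem_eig, mul_smul])
  rw [← h2, ← sq] at h1
  refine h1.trans (Nat.mul_le_mul_left _ (Nat.card_le_card_of_injective _ (AddSubgroup.inclusion_injective
    fun v hv => ?_)))
  have e1 : a⁻¹ • v = v := inv_smul_eq_iff.2 (by simpa [mem_eig] using (mem_eig.1 hv.1).symm)
  have e2 := mem_eig.1 hv.2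
  rw [mem_eig, ← mul_assoc, ← mul_assoc, mul_smul, e1, e2]

theorem fix_U {u : A} (hu : u ∈ U) (h1 : u ≠ 1) : Nat.card (eig u (1 : K) : AddSubgroup V) = 1 := by
  rw [(AddSubgroup.eq_bot_iff_forall (eig u (1 : K))).2 fun v hv => by_contra fun v0 =>
    h1 (U_free h hu v0 (by simpa [mem_eig] using hv)), AddSubgroup.card_bot]

theorem fix_four {a : A} (ha : a ∈ lin A V K) (h1 : a ≠ 1) :
    Nat.card (eig a (1 : K) : AddSubgroup V) ^ 4 ≤ Nat.card V ^ 3 := by
  have v0 : 0 < Nat.card V := Nat.card_pos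
  by_cases hU : a ∈ U
  · rw [fix_U h hU h1]; exact Nat.one_le_pow _ _ v0
  by_cases hR : a ∈ R
  · have := Nat.pow_le_pow_left (eig_sq h hR hU one_ne_zero) 2
    rw [← pow_mul] at this
    exact this.trans (Nat.pow_le_pow_right v0 (by norm_num))
  obtain ⟨r, hr, hU, e⟩ := fix_lin h ha hR
  have := Nat.pow_le_pow_left e 2
  rw [← pow_mul, mul_pow] at this
  exact this.trans (Nat.mul_le_mul_left _ (eig_sq h hr hU one_ne_zero))

theorem fix_three (ho : ¬ 2 ∣ Nat.card A) {a : A} (ha : a ∈ lin A V K) (h1 : a ≠ 1) :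
    Nat.card (eig a (1 : K) : AddSubgroup V) ^ 3 ≤ Nat.card V ^ 2 := by
  have v0 : 0 < Nat.card V := Nat.card_pos
  by_cases hU : a ∈ U
  · rw [fix_U h hU h1]; exact Nat.one_le_pow _ _ v0
  by_cases hR : a ∈ R
  · exact (fix_cube h ho hR hU).trans (Nat.le_self_pow two_ne_zero _)
  obtain ⟨r, hr, hU, e⟩ := fix_lin h ha hR
  have := Nat.pow_le_pow_left e 3
  rw [← pow_mul, mul_pow] at this
  have h2 := this.trans (Nat.mul_le_mul_left _ (fix_cube h ho hr hU))
  rw [← pow_succ, mul_comm, pow_mul, show 3 + 1 = 2 * 2 from rfl, pow_mul] at h2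
  exact (Nat.pow_le_pow_iff_left two_ne_zero).1 h2

theorem exists_eig (e : 4 < U.relIndex R) : ∃ r ∈ R, r ∉ U ∧ ∃ (c : Kˣ) (v : V), v ≠ 0 ∧ r • v = (c : K) • v := by
  obtain ⟨B, v, hB⟩ := h.sy.exists_Mx
  by_cases h0 : B = ⊥
  · exfalso
    subst h0
    have hC : ∀ r ∈ R, emb A V r ∈ h.sy.C ⊥ := fun r hr => ⟨h.mem_R hr, fun b hb => by simp [mem_bot.1 hb]⟩
    have hD : ∀ r, emb A V r ∈ h.sy.D ⊥ → r ∈ U := fun r hr => h.mem_U (by simpa [Sy.D] using hr)
    rcases hB.dich with h1 | ⟨i, j, q⟩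
    · rw [relIndex_eq_one.2 fun r hr => hD r (h1 (hC r hr))] at e
      omega
    have : ∀ r : R, ∃ k : Fin 4, (![1, i, j, i * j] k)⁻¹ * emb A V r ∈ h.sy.D ⊥ := fun r => by
      rcases q.cov _ (hC r r.2) with e | e | e | e
      exacts [⟨0, by simpa using e⟩, ⟨1, e⟩, ⟨2, e⟩, ⟨3, e⟩]
    choose k hk using this
    have := index_le_of_map (U.subgroupOf R) k fun a b e => hD _ (by
      have := mul_mem (inv_mem (hk a)) (hk b)
      rw [e] at this
      simpa [mul_assoc] using this)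
    simp only [Nat.card_eq_fintype_card, Fintype.card_fin] at this
    exact this.not_gt e
  obtain ⟨⟨b, hb⟩, b1⟩ := ne_bot_iff_exists_ne_one.1 h0
  obtain ⟨c, r, hr, rfl⟩ := hB.le hb
  have e1 : (c : K) • r • v = v := hB.hx _ hb
  refine ⟨r, hr, fun hU => b1 (Subtype.ext ?_), c⁻¹, v, hB.v0, (eq_inv_smul_iff (g := c)).2 e1⟩
  obtain ⟨t, ht⟩ := h.sc' hU
  have e2 := hB.hx _ hb
  rw [ht, ← map_mul] at e2
  change emb Kˣ V c * emb A V r = 1
  rw [ht, ← map_mul, h.sy.s_eq_one hB.v0 e2, map_one]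

end Cfsg.Lib.DL9
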