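import Cfsg.Agent.Lib.DL9.Prim

/-!
Derived lengths of small solvable linear groups and permutation groups.
-/

set_option autoImplicit false
set_option linter.style.haveILetI false
set_option linter.unusedSectionVars false

namespace Cfsg.Lib.DL9

open Subgroup MulAction Cfsg.Lib.SL Cfsg.Lib.KP
open scoped Pointwise

universe u

theorem aff_sm {X I H V : Type*} [Group X] [MulAction X I] [Group H] [AddCommGroup V] [DistribMulAction H V]
    (e : V ≃ I) (hth : ∀ a : X, ∃ (t : V) (h : H), ∀ v, a • e v = e (t + h • v)) {d : ℕ}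
    (hs : Sm V (⊤ : Subgroup H) d) : Sm I (⊤ : Subgroup X) (d + 1) := by
  choose t h hth using hth
  let φ : X →* Equiv.Perm V := MonoidHom.mk' (fun a => toPerm (h a)) fun a b => Equiv.ext fun v => by
    have k : ∀ v, t (a * b) + h (a * b) • v = t a + h a • (t b + h b • v) := fun v =>
      e.injective (by rw [← hth, mul_smul, hth, hth])
    have k0 := k 0
    rw [smul_zero, smul_zero, add_zero, add_zero] at k0
    have k1 := k v
    rwa [k0, smul_add, add_assoc, add_right_inj, add_right_inj] at k1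
  have h1 : ∀ a ∈ dS (⊤ : Subgroup X) d, ∀ v : V, h a • v = v := fun a ha v => by
    have := dS_mem φ (T := (⊤ : Subgroup H).map (toPermHom H V)) (fun a _ => ⟨h a, trivial, rfl⟩) ha
    rw [← dS_map] at this
    obtain ⟨g, hg, e⟩ := this
    exact (DFunLike.congr_fun e v).symm.trans (hs g hg v)
  rw [Sm, dS_add]
  refine Sm.one fun a ha b hb i => ?_
  obtain ⟨v, rfl⟩ := e.surjective i
  simp only [hth, h1 a ha, h1 b hb, add_left_comm]

theorem sm_sqf {H V : Type*} [Group H] [AddCommGroup V] [Finite V] [DistribMulAction H V]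
    (h : Squarefree (Nat.card V)) : Sm V (⊤ : Subgroup H) 1 := by
  obtain ⟨g, hg⟩ := (cyc_of_sqf (M := Multiplicative V) h).exists_generator
  have k : ∀ v : V, ∃ k : ℤ, v = k • g.toAdd := fun v => by
    obtain ⟨k, hk⟩ := hg (Multiplicative.ofAdd v)
    exact ⟨k, (congrArg Multiplicative.toAdd hk).symm⟩
  refine Sm.one fun a _ b _ v => ?_
  obtain ⟨i, rfl⟩ := k v
  obtain ⟨j, hj⟩ := k (a • g.toAdd)
  obtain ⟨l, hl⟩ := k (b • g.toAdd)
  simp only [smul_comm a, smul_comm b, hj, hl]
  rw [smul_comm l]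

theorem sm_two {H V : Type*} [Group H] [AddCommGroup V] [Finite V] [DistribMulAction H V]
    (h : Nat.card V ≤ 2) : Sm V (⊤ : Subgroup H) 0 := fun a _ v => by
  classical
  by_contra ne
  have v0 : v ≠ 0 := fun e => ne (by rw [e, smul_zero])
  have := Set.ncard_le_ncard (Set.subset_univ {a • v, v, 0}) (Set.toFinite _)
  rw [Set.ncard_univ, Set.ncard_eq_three.2 ⟨_, _, _, ne, mt (smul_eq_zero_iff_eq a).1 v0, v0, rfl⟩] at this
  omega

theorem prim1 {A V K : Type*} [Group A] [AddCommGroup V] [DistribMulAction A V] [Field K] [Module K V]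
    {U R : Subgroup A} (h : Pr V K U R) [Nontrivial V] [FaithfulSMul A V] [Finite A] [Finite V] [Finite K] :
    ∃ d e : ℕ, Nat.card V = Nat.card K ^ d ∧ 0 < e ∧ e ≤ d ∧ U.relIndex R = e ^ 2 ∧
      ∀ r, r.Prime → r ∣ e → r ∣ Nat.card K - 1 := by
  haveI := Module.Finite.of_finite (R := K) (M := V)
  obtain ⟨M, h2, h3, h4⟩ := exists_M h
  have h5 : U.relIndex R = U.relIndex M ^ 2 := by rw [← relIndex_mul_relIndex _ _ _ h2 h3, h4, sq]
  exact ⟨Module.finrank K V, U.relIndex M, Module.natCard_eq_pow_finrank,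
    Nat.pos_of_ne_zero index_ne_zero_of_finite, (Nat.pow_le_pow_iff_left two_ne_zero).1 (h5 ▸ relIndex_le_sq h),
    h5, fun r hr hd => prime_dvd h hr (h5 ▸ hd.trans (dvd_pow_self _ two_ne_zero))⟩

theorem lin_le_U {A V K : Type*} [Group A] [AddCommGroup V] [DistribMulAction A V] [Field K] [Module K V]
    {U R : Subgroup A} (h : Pr V K U R) [Nontrivial V] [FaithfulSMul A V] [Finite A] [Finite V] [Finite K]
    (e : U.relIndex R = 1) : lin A V K ≤ U := relIndex_eq_one.1 (kap_one h e)

theorem lt_of_prime_dvd {q e : ℕ} (hq : 1 < q) (he : 2 ≤ e) (h : ∀ r, r.Prime → r ∣ e → r ∣ q - 1) :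
    e.minFac < q := by
  have := Nat.le_of_dvd (by omega) (h _ (Nat.minFac_prime (by omega)) (Nat.minFac_dvd e))
  omega

/-- bounds for the derived length -/
def dl (n : ℕ) : ℕ := if n ≤ 2 then 0 else if n ≤ 3 then 1 else if n ≤ 8 then 2 else if n ≤ 63 then 4 else
  if n < 4096 then 6 else 8

theorem dl_mono {m n : ℕ} (h : m ≤ n) : dl m ≤ dl n := by
  unfold dl; split_ifs <;> omega

theorem dl_imp : ∀ w < 257, ∀ t < 17, 2 ≤ w → 2 ≤ t → w ^ t ≤ 65536 → dl t + 1 + dl w ≤ dl (w ^ t) := by
  decide +kernel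

theorem prm_sm {X I : Type u} [Group X] [Finite X] [Group.IsSolvable X] [Finite I] [MulAction X I]
    (prim : Prm X I) {d : ℕ} (h : ∀ (H V : Type u) [Group H] [Finite H] [Group.IsSolvable H] [AddCommGroup V]
      [Finite V] [DistribMulAction H V], Nat.card V = Nat.card I → Irr H V → Sm V (⊤ : Subgroup H) d) :
    Sm I (⊤ : Subgroup X) (d + 1) := by
  by_cases hne : ∃ (a : X) (i : I), a • i ≠ i
  · obtain ⟨H, V, _, _, _, _, _, e, -, -, h3, h4⟩ := exists_affine prim hne
    haveI := Finite.of_equiv _ e.symm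
    exact aff_sm e h4 (h H V (Nat.card_congr e) h3)
  · push Not at hne
    exact fun a _ => hne a

instance faithful_range {A V : Type*} [Group A] [AddCommGroup V] [DistribMulAction A V] :
    FaithfulSMul (emb A V).range V := ⟨fun {a b} e => Subtype.ext (inv_mul_eq_one.1 (units_faith _ fun v => by
    rw [mul_smul, inv_smul_eq_iff]; exact (e v).symm))⟩

instance solvable_range {A V : Type*} [Group A] [Group.IsSolvable A] [AddCommGroup V] [DistribMulAction A V] :
    Group.IsSolvable (emb A V).range := Group.isSolvable_of_surjective (emb A V).rangeRestrict_surjective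

theorem irr_range {A V : Type*} [Group A] [AddCommGroup V] [DistribMulAction A V] (irr : Irr A V) :
    Irr (emb A V).range V := fun W h => irr W fun a => h ((emb A V).rangeRestrict a)

theorem Sm.range {A V : Type*} [Group A] [AddCommGroup V] [DistribMulAction A V] {d : ℕ}
    (h : Sm V (⊤ : Subgroup (emb A V).range) d) : Sm V (⊤ : Subgroup A) d :=
  h.of_hom (emb A V).rangeRestrict (fun _ _ => rfl) fun _ _ => mem_top _

theorem dlB (n : ℕ) (hn : n ≤ 65536) (A : Type*) (V : Type u) [Group A] [Finite A] [Group.IsSolvable A]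
    [AddCommGroup V] [Finite V] [DistribMulAction A V] (hV : Nat.card V = n) (irr : Irr A V) :
    Sm V (⊤ : Subgroup A) (dl n) := by
  suffices H : ∀ (A V : Type u) [Group A] [Finite A] [Group.IsSolvable A] [AddCommGroup V] [Finite V]
      [DistribMulAction A V] [FaithfulSMul A V], Nat.card V = n → Irr A V → Sm V (⊤ : Subgroup A) (dl n) from
    (H _ V hV (irr_range irr)).range
  clear hV
  induction n using Nat.strong_induction_on with
  | _ n ih₀ =>
  have ih : ∀ m < n, ∀ (A V : Type u) [Group A] [Finite A] [Group.IsSolvable A] [AddCommGroup V] [Finite V]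
      [DistribMulAction A V], Nat.card V = m → Irr A V → Sm V (⊤ : Subgroup A) (dl m) :=
    fun m hm A V _ _ _ _ _ _ hV irr => (ih₀ m hm (by omega) _ V hV (irr_range irr)).range
  intro A V _ _ _ _ _ _ _ hV irr
  by_cases h2 : n ≤ 2
  · exact (sm_two (hV ▸ h2)).mono le_rfl (Nat.zero_le _)
  by_cases h3 : n = 3
  · subst h3
    exact sm_sqf (hV ▸ Nat.prime_three.squarefree)
  haveI : Nontrivial V := Finite.one_lt_card_iff_nontrivial.1 (by omega)
  rcases dich' (A := A) (V := V) with h | ⟨K, _, _, _, U, R, h⟩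
  · obtain ⟨W, h0, h1, hW, prim⟩ := exists_prim irr h
    haveI := Fintype.ofFinite (orbit A W)
    have e := blk_pow irr h0 hW
    have t2 := two_le_orbit irr h0 h1 hW
    have w2 : 2 ≤ Nat.card W := (AddSubgroup.one_lt_card_iff_ne_bot W).2 h0
    have lt1 : Nat.card (orbit A W) < n :=
      hV ▸ e ▸ Nat.lt_two_pow_self.trans_le (Nat.pow_le_pow_left w2 _)
    have lt2 : Nat.card W < n := hV ▸ e ▸ by nlinarith [Nat.pow_le_pow_right (zero_lt_two.trans_le w2) t2]
    refine (imp_sm irr h0 (prm_sm prim fun H V' _ _ _ _ _ _ => ih _ lt1 H V') fun j =>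
      ih _ lt2 _ _ (blk_card j) (blk_irr irr hW j)).mono le_rfl ?_
    rw [← hV, e] at hn ⊢
    refine dl_imp _ ?_ _ ?_ w2 t2 hn
    · nlinarith [Nat.pow_le_pow_right (zero_lt_two.trans_le w2) t2]
    · exact (Nat.pow_lt_pow_iff_right one_lt_two).1 ((Nat.pow_le_pow_left w2 _).trans_lt (by omega))
  obtain ⟨d, e, e1, e0, ed, e2, e3⟩ := prim1 h
  by_cases he : e = 1
  · refine (sm_top h ((dS_lin h).trans (lin_le_U h (by rw [e2, he]; rfl)))).mono le_rfl ?_
    unfold dl; split_ifs <;> omega
  have q1 : 1 < Nat.card K := Finite.one_lt_card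
  have q2 := lt_of_prime_dvd q1 (by omega) e3
  have q3 : 3 ≤ Nat.card K := by have := (Nat.minFac_prime he).two_le; omega
  have n1 : Nat.card K ^ e ≤ n := hV ▸ e1 ▸ Nat.pow_le_pow_right (by omega) ed
  have n2 : 3 ^ e ≤ n := (Nat.pow_le_pow_left q3 _).trans n1
  have n3 : e = 3 → 64 ≤ n := by
    rintro rfl
    exact (Nat.pow_le_pow_left (n := 4) (by rwa [Nat.prime_three.minFac_eq] at q2) 3).trans n1
  have e10 : e ≤ 10 := by
    by_contra hc
    have := Nat.pow_le_pow_right (show 0 < 3 by norm_num) (show 11 ≤ e by omega)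
    omega
  have k : e ^ 2 < n ∧ 1 ≤ dl (e ^ 2) ∧ dl (e ^ 2) + 1 + 1 ≤ dl n := by
    interval_cases e <;> simp [dl] at he n2 n3 ⊢ <;> (try split_ifs) <;> omega
  obtain ⟨W, _, _, _, w1, w2, π, -, w3⟩ := exists_mod h
  refine (sm_top h (dS_U h (dS_R h w3 k.2.1 (sm_cr w2 fun M hM irr => ?_)))).mono le_rfl k.2.2
  letI := invAct A M hM
  have : Nat.card M ≤ e ^ 2 := e2 ▸ w1 ▸ Nat.card_le_card_of_injective _ Subtype.val_injective
  exact (ih _ (by omega) A M rfl irr).mono le_rfl (dl_mono this)

theorem dl_cr {A : Type*} {V : Type u} [Group A] [Finite A] [Group.IsSolvable A] [AddCommGroup V] [Finite V]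
    [DistribMulAction A V] (hn : Nat.card V ≤ 65536) (h : CR A V) : Sm V (⊤ : Subgroup A) (dl (Nat.card V)) :=
  sm_cr h fun M hM irr => by
    letI := invAct A M hM
    have : Nat.card M ≤ Nat.card V := Nat.card_le_card_of_injective _ Subtype.val_injective
    exact (dlB _ (by omega) A M rfl irr).mono le_rfl (dl_mono this)

theorem prm_dl {X I : Type u} [Group X] [Finite X] [Group.IsSolvable X] [Finite I] [MulAction X I]
    (prim : Prm X I) (hn : Nat.card I ≤ 65536) : Sm I (⊤ : Subgroup X) (dl (Nat.card I) + 1) :=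
  prm_sm prim fun H V _ _ _ _ _ _ => dlB _ hn H V

/-- bounds for the derived length of small permutation groups -/
def pl (n : ℕ) : ℕ := if n ≤ 3 then n - 1 else 3

theorem perm_sm (n : ℕ) (hn : n ≤ 7) (X I : Type u) [Group X] [Finite X] [Group.IsSolvable X] [Finite I]
    [MulAction X I] (hI : Nat.card I = n) : Sm I (⊤ : Subgroup X) (pl n) := by
  classical
  induction n using Nat.strong_induction_on generalizing X I with
  | _ n ih =>
  by_cases h1 : n ≤ 1
  · haveI := Finite.card_le_one_iff_subsingleton.1 (hI ▸ h1)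
    exact fun _ _ _ => Subsingleton.elim _ _
  by_cases prim : Prm X I
  · refine (prm_dl prim (by omega)).mono le_rfl ?_
    rw [hI]
    interval_cases n <;> simp [dl, pl] at h1 ⊢
  by_cases tr : ∃ i j : I, j ∉ orbit X i
  · intro a ha i
    let B : SubMulAction X I := ⟨orbit X i, fun a j hj => mapsTo_smul_orbit a i hj⟩
    have lt : Nat.card B < n := by
      obtain ⟨j, k, hk⟩ := tr
      by_contra hc
      have : ∀ l, l ∈ orbit X i := fun l => by_contra fun hl =>
        hc (hI ▸ Finite.card_subtype_lt (p := (· ∈ B)) hl)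
      exact hk (by rw [orbit_eq_iff.2 (this j)]; exact this k)
    exact congrArg Subtype.val ((ih _ lt (by omega) X B rfl).mono le_rfl (d' := pl n)
      (by unfold pl; split_ifs <;> omega) a ha ⟨i, mem_orbit_self i⟩)
  push Not at tr
  unfold Prm at prim
  push Not at prim
  obtain ⟨s, hs, ⟨i₁, i₂, h12, n12⟩, i₃, i₄, n34⟩ := prim
  letI : MulAction X (Quotient s) :=
    { smul := fun a => Quotient.map (a • ·) (hs a)
      one_smul := fun j => j.inductionOn fun i => congrArg (Quotient.mk s) (one_smul X i)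
      mul_smul := fun a b j => j.inductionOn fun i => congrArg (Quotient.mk s) (mul_smul a b i) }
  have mk : ∀ (a : X) i, Quotient.mk s (a • i) = a • Quotient.mk s i := fun _ _ => rfl
  haveI := Fintype.ofFinite (Quotient s)
  let B : (j : Quotient s) → SubMulAction (stabilizer X j) I := fun j =>
    ⟨{i | Quotient.mk s i = j}, fun a i hi => (mk a i).trans (by rw [hi]; exact a.2)⟩
  have hB : ∀ j, Nat.card (B j) = Nat.card (B (Quotient.mk s i₁)) := fun j => j.inductionOn fun i => by
    obtain ⟨a, rfl⟩ := tr i₁ i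
    refine (Nat.card_congr (Equiv.subtypeEquiv (toPerm a) fun k => ?_)).symm
    change Quotient.mk s k = _ ↔ Quotient.mk s (a • k) = Quotient.mk s (a • i₁)
    rw [mk, mk, smul_left_cancel_iff]
  have h6 : Nat.card (Quotient s) * Nat.card (B (Quotient.mk s i₁)) = n := by
    rw [← hI, ← Nat.card_congr (Equiv.sigmaFiberEquiv (Quotient.mk s)), Nat.card_sigma]
    exact Eq.trans (by simp) (Finset.sum_congr rfl fun j _ => hB j).symm
  have m2 : 1 < Nat.card (Quotient s) :=
    Finite.one_lt_card_iff_nontrivial.2 ⟨⟨_, _, fun e => n34 (Quotient.exact e)⟩⟩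
  have b2 : 1 < Nat.card (B (Quotient.mk s i₁)) := Finite.one_lt_card_iff_nontrivial.2
    ⟨⟨⟨i₁, rfl⟩, ⟨i₂, Quotient.sound (s.symm h12)⟩, fun e => n12 (congrArg Subtype.val e)⟩⟩
  have k1 := ih _ (by nlinarith) (by nlinarith) X (Quotient s) rfl
  have k2 := fun j => ih _ (by nlinarith) (by nlinarith) (stabilizer X j) (B j) (hB j)
  refine Sm.mono (d := pl (Nat.card (Quotient s)) + pl (Nat.card (B (Quotient.mk s i₁)))) (fun a ha i => ?_)
    le_rfl ?_
  · rw [dS_add] at ha
    obtain ⟨b, hb, rfl⟩ := dS_sub (N := stabilizer X (Quotient.mk s i)) (fun b hb => k1 b hb _) ha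
    exact congrArg Subtype.val (k2 _ b (dS_mono le_top _ hb) ⟨i, rfl⟩)
  · generalize Nat.card (Quotient s) = m at *
    generalize Nat.card (B (Quotient.mk s i₁)) = b at *
    have : m ≤ 3 := by nlinarith
    have : b ≤ 3 := by nlinarith
    subst h6
    interval_cases m <;> interval_cases b <;> simp [pl] at hn ⊢

end Cfsg.Lib.DL9
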